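import Cfsg.Agent.SporadicRecognition.AltCover
import Mathlib
import Cfsg.Agent.Lib.Cores
import Cfsg.Agent.S0215
set_option linter.all false

-- part: SporRec/TwoNine/Cv
section
/-!
# Involution centralisers isomorphic to a double cover of an alternating group: element-wise interface

`Cv n z p`: the function `p : G → Perm (Fin n)` restricts to a homomorphism of the centraliser of the
involution `z` onto the alternating group with kernel `{1, z}`, and elements over double transpositions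
have square `z`.
-/

set_option autoImplicit false

namespace Cfsg.Agent.SporRec.TwoNine.Cv

open Equiv Equiv.Perm

/-- `p` restricts to a non-split double cover of the alternating group on the centraliser of `z`. -/
structure Cv {G : Type*} [Group G] (n : ℕ) (z : G) (p : G → Perm (Fin n)) : Prop where
  z_ne : z ≠ 1
  z_sq : z * z = 1
  mul : ∀ {x y : G}, Commute x z → Commute y z → p (x * y) = p x * p y
  sgn : ∀ {x : G}, Commute x z → sign (p x) = 1
  surj : ∀ {σ : Perm (Fin n)}, sign σ = 1 → ∃ x : G, Commute x z ∧ p x = σ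
  ker : ∀ {x : G}, Commute x z → p x = 1 → x = 1 ∨ x = z
  pz : p z = 1
  two : ∀ {x : G} {a b c d : Fin n}, Commute x z → [a, b, c, d].Nodup →
    p x = swap a b * swap c d → x * x = z

variable {G : Type*} [Group G] {n : ℕ} {z : G} {p : G → Perm (Fin n)}

theorem Cv.one (h : Cv n z p) : p 1 = 1 := by
  have h1 := h.mul (Commute.one_left z) (Commute.one_left z)
  rw [mul_one] at h1
  exact (mul_eq_left.1 h1.symm)

theorem Cv.inv (h : Cv n z p) {x : G} (hx : Commute x z) : p x⁻¹ = (p x)⁻¹ := by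
  have h1 := h.mul hx.inv_left hx
  rw [inv_mul_cancel, h.one] at h1
  exact eq_inv_of_mul_eq_one_left h1.symm

theorem Cv.pow (h : Cv n z p) {x : G} (hx : Commute x z) (k : ℕ) : p (x ^ k) = p x ^ k := by
  induction k with
  | zero => rw [pow_zero, pow_zero, h.one]
  | succ k ih => rw [pow_succ, pow_succ, h.mul (hx.pow_left k) hx, ih]

theorem Cv.zpow (h : Cv n z p) {x : G} (hx : Commute x z) (k : ℤ) : p (x ^ k) = p x ^ k := by
  obtain ⟨k, rfl | rfl⟩ := Int.eq_nat_or_neg k
  · rw [zpow_natCast, zpow_natCast, h.pow hx]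
  · rw [zpow_neg, zpow_neg, zpow_natCast, zpow_natCast, h.inv (hx.pow_left k), h.pow hx]

theorem Cv.conj (h : Cv n z p) {g x : G} (hg : Commute g z) (hx : Commute x z) :
    p (g * x * g⁻¹) = p g * p x * (p g)⁻¹ := by
  rw [h.mul (hg.mul_left hx) hg.inv_left, h.mul hg hx, h.inv hg]

theorem Cv.z_inv (h : Cv n z p) : z⁻¹ = z := inv_eq_of_mul_eq_one_left h.z_sq

theorem Cv.eq_or (h : Cv n z p) {x y : G} (hx : Commute x z) (hy : Commute y z)
    (hxy : p x = p y) : x = y ∨ x = y * z := by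
  have h1 : p (y⁻¹ * x) = 1 := by rw [h.mul hy.inv_left hx, h.inv hy, hxy, inv_mul_cancel]
  rcases h.ker (hy.inv_left.mul_left hx) h1 with h2 | h2
  · left; exact (inv_mul_eq_one.1 h2).symm
  · right; rw [← h2, mul_inv_cancel_left]

theorem Cv.mul_z (h : Cv n z p) {x : G} (hx : Commute x z) : p (x * z) = p x := by
  rw [h.mul hx (Commute.refl z), h.pz, mul_one]

theorem Cv.mul_z_cube (h : Cv n z p) {x : G} (hx : Commute x z) : (x * z) ^ 3 = x ^ 3 * z := by
  rw [hx.mul_pow, pow_succ z 2, pow_two, h.z_sq, one_mul]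

theorem Cv.eq_of_cube (h : Cv n z p) {x y : G} (hx : Commute x z) (hy : Commute y z)
    (hx3 : x ^ 3 = 1) (hy3 : y ^ 3 = 1) (hxy : p x = p y) : x = y := by
  rcases h.eq_or hx hy hxy with h1 | h1
  · exact h1
  · exfalso
    rw [h1, h.mul_z_cube hy, hy3, one_mul] at hx3
    exact h.z_ne hx3

theorem Cv.exists_cube (h : Cv n z p) {σ : Perm (Fin n)} (hσ : σ ^ 3 = 1) :
    ∃ x : G, Commute x z ∧ x ^ 3 = 1 ∧ p x = σ := by
  have hs : sign σ = 1 := by
    have h1 : sign σ ^ 3 = 1 := by rw [← map_pow, hσ, map_one]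
    rcases Int.units_eq_one_or (sign σ) with h2 | h2
    · exact h2
    · rw [h2] at h1
      exact absurd h1 (by decide)
  obtain ⟨y, hy, hyσ⟩ := h.surj hs
  have h3 : p (y ^ 3) = 1 := by rw [h.pow hy, hyσ, hσ]
  rcases h.ker (hy.pow_left 3) h3 with h1 | h1
  · exact ⟨y, hy, h1, hyσ⟩
  · refine ⟨y * z, hy.mul_left (Commute.refl z), ?_, ?_⟩
    · rw [h.mul_z_cube hy, h1, h.z_sq]
    · rw [h.mul_z hy, hyσ]

/-- conjugation of elements of order dividing three is determined by the images -/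
theorem Cv.conj_cube (h : Cv n z p) {g x y : G} (hg : Commute g z) (hx : Commute x z)
    (hy : Commute y z) (hx3 : x ^ 3 = 1) (hy3 : y ^ 3 = 1) (e : p g * p x = p y * p g) :
    g * x * g⁻¹ = y := by
  refine h.eq_of_cube ((hg.mul_left hx).mul_left hg.inv_left) hy ?_ hy3 ?_
  · rw [conj_pow, hx3, mul_one, mul_inv_cancel]
  · rw [h.conj hg hx, e, mul_inv_cancel_right]

theorem Cv.comm_cube (h : Cv n z p) {g x : G} (hg : Commute g z) (hx : Commute x z)
    (hx3 : x ^ 3 = 1) (e : p g * p x = p x * p g) : Commute g x := by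
  have h1 := h.conj_cube hg hx hx hx3 hx3 e
  exact mul_inv_eq_iff_eq_mul.1 h1

theorem Cv.inv_cube (h : Cv n z p) {g x : G} (hg : Commute g z) (hx : Commute x z)
    (hx3 : x ^ 3 = 1) (e : p g * p x = (p x)⁻¹ * p g) : g * x * g⁻¹ = x⁻¹ := by
  refine h.conj_cube hg hx hx.inv_left hx3 ?_ ?_
  · rw [inv_pow, hx3, inv_one]
  · rw [h.inv hx, e]

/-- transport along a conjugation -/
theorem Cv.transport (h : Cv n z p) (g : G) :
    Cv n (g * z * g⁻¹) (fun x => p (g⁻¹ * x * g)) := by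
  have key : ∀ {x : G}, Commute x (g * z * g⁻¹) → Commute (g⁻¹ * x * g) z := by
    intro x hx
    have h1 : x * (g * z * g⁻¹) = g * z * g⁻¹ * x := hx
    change g⁻¹ * x * g * z = z * (g⁻¹ * x * g)
    calc g⁻¹ * x * g * z = g⁻¹ * (x * (g * z * g⁻¹)) * g := by group
      _ = z * (g⁻¹ * x * g) := by rw [h1]; group
  refine ⟨?_, ?_, ?_, ?_, ?_, ?_, ?_, ?_⟩
  · intro h1
    apply h.z_ne
    calc z = g⁻¹ * (g * z * g⁻¹) * g := by group
      _ = 1 := by rw [h1]; group
  · calc g * z * g⁻¹ * (g * z * g⁻¹) = g * (z * z) * g⁻¹ := by group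
      _ = 1 := by rw [h.z_sq]; group
  · intro x y hx hy
    change p (g⁻¹ * (x * y) * g) = p (g⁻¹ * x * g) * p (g⁻¹ * y * g)
    rw [← h.mul (key hx) (key hy)]
    congr 1
    group
  · intro x hx
    exact h.sgn (key hx)
  · intro σ hσ
    obtain ⟨x, hx, hxσ⟩ := h.surj hσ
    refine ⟨g * x * g⁻¹, ?_, ?_⟩
    · have h1 : x * z = z * x := hx
      change g * x * g⁻¹ * (g * z * g⁻¹) = g * z * g⁻¹ * (g * x * g⁻¹)
      calc g * x * g⁻¹ * (g * z * g⁻¹) = g * (x * z) * g⁻¹ := by group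
        _ = g * z * g⁻¹ * (g * x * g⁻¹) := by rw [h1]; group
    · change p (g⁻¹ * (g * x * g⁻¹) * g) = σ
      rw [← hxσ]
      congr 1
      group
  · intro x hx hx1
    rcases h.ker (key hx) hx1 with h1 | h1
    · left
      calc x = g * (g⁻¹ * x * g) * g⁻¹ := by group
        _ = 1 := by rw [h1]; group
    · right
      rw [← h1]; group
  · change p (g⁻¹ * (g * z * g⁻¹) * g) = 1
    rw [← h.pz]
    congr 1
    group
  · intro x a b c d hx hn hpx
    have h1 := h.two (key hx) hn hpx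
    calc x * x = g * (g⁻¹ * x * g * (g⁻¹ * x * g)) * g⁻¹ := by group
      _ = g * z * g⁻¹ := by rw [h1]

end Cfsg.Agent.SporRec.TwoNine.Cv
end

-- part: SporRec/TwoNine/Perms
section
/-!
# Explicit permutations of nine and of ten points
-/

set_option autoImplicit false

namespace Cfsg.Agent.SporRec.TwoNine.Perms

open Equiv Equiv.Perm

/-- the 3-cycles on the three blocks -/
def sa (m : ℕ) : Perm (Fin (m + 9)) := swap 0 1 * swap 1 2
def sb (m : ℕ) : Perm (Fin (m + 9)) := swap 3 4 * swap 4 5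
def sc (m : ℕ) : Perm (Fin (m + 9)) := swap 6 7 * swap 7 8
/-- swaps the first two blocks and inverts the third -/
def su (m : ℕ) : Perm (Fin (m + 9)) := swap 0 3 * swap 1 4 * (swap 2 5 * swap 6 7)
/-- inverts the first two blocks -/
def sg (m : ℕ) : Perm (Fin (m + 9)) := swap 0 1 * swap 3 4
/-- permutes the three blocks cyclically -/
def sd (m : ℕ) : Perm (Fin (m + 9)) :=
  swap 0 3 * swap 3 6 * (swap 1 4 * swap 4 7) * (swap 2 5 * swap 5 8)
/-- an involution inverting the first block -/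
def sv (m : ℕ) : Perm (Fin (m + 9)) := swap 0 1 * swap 3 4 * (swap 5 6 * swap 7 8)
def sq1 (m : ℕ) : Perm (Fin (m + 9)) := swap 3 4 * swap 5 6
def sq2 (m : ℕ) : Perm (Fin (m + 9)) := swap 3 4 * swap 7 8
def sl (m : ℕ) : Perm (Fin (m + 9)) := swap 3 5 * swap 4 6
/-- inverts the last two blocks -/
def sh (m : ℕ) : Perm (Fin (m + 9)) := swap 3 4 * swap 6 7

theorem mul_swap_comm {n : ℕ} {a b c d : Fin n} (h : [a, b, c, d].Nodup) :
    Commute (swap a b) (swap c d) := (disjoint_swap_swap h).commute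

theorem cube_of_cycle {n : ℕ} {a b c : Fin n} (hab : a ≠ b) (hbc : b ≠ c) (hac : a ≠ c) :
    (swap a b * swap b c) ^ 3 = 1 := by
  have h := isThreeCycle_swap_mul_swap_same hab.symm hbc hac
  rw [swap_comm b a] at h
  rw [← h.orderOf, pow_orderOf_eq_one]

/-- permutations with the cycle type of a double transposition -/
theorem exists_of_two_two {m : ℕ} (hm : m < 2) {σ : Perm (Fin (m + 9))}
    (h : σ.cycleType = {2, 2}) :
    ∃ a b c d : Fin (m + 9), [a, b, c, d].Nodup ∧ σ = swap a b * swap c d := by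
  have hnd : ([(0 : Fin (m + 9)), 1, 2, 3] : List (Fin (m + 9))).Nodup := by
    interval_cases m <;> decide
  have h1 : IsConj (swap (0 : Fin (m + 9)) 1 * swap 2 3) σ := by
    rw [isConj_iff_cycleType_eq, h, cycleType_swap_mul_swap_of_nodup hnd]
  obtain ⟨g, hg⟩ := isConj_iff.1 h1
  refine ⟨g 0, g 1, g 2, g 3, ?_, ?_⟩
  · exact (List.nodup_map_iff (l := [(0 : Fin (m + 9)), 1, 2, 3]) g.injective).2 hnd
  · rw [swap_apply_apply, swap_apply_apply, ← hg]; group

theorem cycleType_su {m : ℕ} (hm : m < 2) : (su m).cycleType = {2, 2, 2, 2} := by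
  have hd : Equiv.Perm.Disjoint (swap (0 : Fin (m + 9)) 3 * swap 1 4) (swap 2 5 * swap 6 7) := by
    have h : ∀ x : Fin (m + 9), (swap 0 3 * swap 1 4 : Perm (Fin (m + 9))) x = x ∨
        (swap 2 5 * swap 6 7 : Perm (Fin (m + 9))) x = x := by
      interval_cases m <;> decide
    exact h
  rw [su, hd.cycleType_mul, cycleType_swap_mul_swap_of_nodup (by interval_cases m <;> decide),
    cycleType_swap_mul_swap_of_nodup (by interval_cases m <;> decide)]
  rfl

theorem cycleType_of_sq {m : ℕ} (hm : m < 2) {σ : Perm (Fin (m + 9))} (h2 : σ * σ = 1)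
    (h1 : σ ≠ 1) (hs : sign σ = 1) : σ.cycleType = {2, 2} ∨ σ.cycleType = {2, 2, 2, 2} := by
  have ho : orderOf σ = 2 := orderOf_eq_prime (by rw [pow_two]; exact h2) h1
  have hp : (orderOf σ).Prime := by rw [ho]; exact Nat.prime_two
  obtain ⟨k, hk⟩ := cycleType_prime_order hp
  rw [ho] at hk
  have h3 := sum_cycleType_le σ
  rw [hk, Multiset.sum_replicate, Fintype.card_fin, smul_eq_mul] at h3
  have h4 := sign_of_cycleType σ
  rw [hs, hk, Multiset.sum_replicate, Multiset.card_replicate, smul_eq_mul] at h4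
  have hk5 : k < 5 := by omega
  rw [hk]
  interval_cases k
  · exact absurd h4 (by decide)
  · left; rfl
  · exact absurd h4 (by decide)
  · right; rfl
  · exact absurd h4 (by decide)

/-- an element with the cycle type of `su` is conjugate to it by an even permutation -/
theorem exists_even_conj_su {m : ℕ} (hm : m < 2) {σ : Perm (Fin (m + 9))}
    (h : σ.cycleType = {2, 2, 2, 2}) : ∃ g : Perm (Fin (m + 9)), sign g = 1 ∧
      g * σ * g⁻¹ = su m := by
  have h1 : IsConj σ (su m) := by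
    rw [isConj_iff_cycleType_eq, h, cycleType_su hm]
  obtain ⟨g, hg⟩ := isConj_iff.1 h1
  by_cases hs : sign g = 1
  · exact ⟨g, hs, hg⟩
  · have hs' : sign g = -1 := (Int.units_eq_one_or _).resolve_left hs
    have h01 : sign (swap (6 : Fin (m + 9)) 7) = -1 := by interval_cases m <;> decide
    have hc : swap (6 : Fin (m + 9)) 7 * su m * swap 6 7 = su m := by
      interval_cases m <;> decide
    refine ⟨swap 6 7 * g, ?_, ?_⟩
    · rw [map_mul, hs', h01]; rfl
    · have h2 : swap 6 7 * g * σ * (swap 6 7 * g)⁻¹ = swap 6 7 * (g * σ * g⁻¹) * (swap 6 7)⁻¹ := by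
        group
      rw [h2, hg, swap_inv, hc]

end Cfsg.Agent.SporRec.TwoNine.Perms
end

-- part: SporRec/TwoNine/Basic
section
/-!
# Involutions in the double covers of the alternating groups of degrees nine and ten
-/

set_option autoImplicit false

namespace Cfsg.Agent.SporRec.TwoNine.Basic

open Equiv Equiv.Perm
open Cfsg.Agent.SporRec.TwoNine.Cv Cfsg.Agent.SporRec.TwoNine.Perms

variable {G : Type*} [Group G]

section general

variable {n : ℕ} {z : G} {p : G → Perm (Fin n)}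

/-- elements over a product of four disjoint transpositions are involutions -/
theorem quad (h : Cv n z p) {x : G} {a b c d e f k l : Fin n} (hx : Commute x z)
    (hn : [a, b, c, d, e, f, k, l].Nodup)
    (hpx : p x = swap a b * swap c d * (swap e f * swap k l)) : x * x = 1 := by
  simp only [List.nodup_cons, List.mem_cons, List.not_mem_nil, or_false, not_or,
      List.nodup_nil, and_true, not_false_eq_true] at hn
  obtain ⟨⟨hab, hac, had, hae, haf, hak, hal⟩, ⟨hbc, hbd, hbe, hbf, hbk, hbl⟩,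
    ⟨hcd, hce, hcf, hck, hcl⟩, ⟨hde, hdf, hdk, hdl⟩, ⟨hef, hek, hel⟩, ⟨hfk, hfl⟩, hkl⟩ := hn
  have nd : ∀ {q r s t : Fin n}, q ≠ r → q ≠ s → q ≠ t → r ≠ s → r ≠ t → s ≠ t →
      [q, r, s, t].Nodup := by
    intro q r s t h1 h2 h3 h4 h5 h6
    simp only [List.nodup_cons, List.mem_cons, List.not_mem_nil, or_false, not_or,
      List.nodup_nil, and_true, not_false_eq_true]
    exact ⟨⟨h1, h2, h3⟩, ⟨h4, h5⟩, h6⟩
  have hsg : ∀ {q r s t : Fin n}, q ≠ r → s ≠ t → sign (swap q r * swap s t) = 1 := by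
    intro q r s t h1 h2
    rw [map_mul, sign_swap h1, sign_swap h2]; rfl
  obtain ⟨y, hy, hyp⟩ := h.surj (hsg hef hkl)
  -- the two three-cycles
  obtain ⟨X, hX, hX3, hXp⟩ := h.exists_cube (cube_of_cycle hab hbc hac)
  obtain ⟨Y, hY, hY3, hYp⟩ := h.exists_cube (cube_of_cycle hbc hcd hbd)
  have c1 : Commute (swap a b) (swap e f * swap k l) :=
    (mul_swap_comm (nd hab hae haf hbe hbf hef)).mul_right
      (mul_swap_comm (nd hab hak hal hbk hbl hkl))
  have c2 : Commute (swap b c) (swap e f * swap k l) :=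
    (mul_swap_comm (nd hbc hbe hbf hce hcf hef)).mul_right
      (mul_swap_comm (nd hbc hbk hbl hck hcl hkl))
  have c3 : Commute (swap c d) (swap e f * swap k l) :=
    (mul_swap_comm (nd hcd hce hcf hde hdf hef)).mul_right
      (mul_swap_comm (nd hcd hck hcl hdk hdl hkl))
  have hyX : Commute y X := h.comm_cube hy hX hX3 (by
    rw [hyp, hXp]; exact (c1.mul_left c2).eq.symm)
  have hyY : Commute y Y := h.comm_cube hy hY hY3 (by
    rw [hyp, hYp]; exact (c2.mul_left c3).eq.symm)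
  have hXY : p (X * Y) = swap a b * swap c d := by
    rw [h.mul hX hY, hXp, hYp]
    calc swap a b * swap b c * (swap b c * swap c d)
        = swap a b * (swap b c * swap b c) * swap c d := by group
      _ = swap a b * swap c d := by rw [swap_mul_self, mul_one]
  have h1 : X * Y * (X * Y) = z := h.two (hX.mul_left hY) (nd hab hac had hbc hbd hcd) hXY
  have h2 : y * y = z := h.two hy (nd hef hek hel hfk hfl hkl) hyp
  have h3 : Commute y (X * Y) := hyX.mul_right hyY
  have h4 : X * Y * y * (X * Y * y) = 1 := by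
    calc X * Y * y * (X * Y * y) = X * Y * (y * (X * Y)) * y := by group
      _ = X * Y * (X * Y * y) * y := by rw [h3.eq]
      _ = (X * Y * (X * Y)) * (y * y) := by group
      _ = 1 := by rw [h1, h2, h.z_sq]
  have hc : Commute (X * Y * y) z := (hX.mul_left hY).mul_left hy
  rcases h.eq_or hx hc (by rw [hpx, h.mul (hX.mul_left hY) hy, hXY, hyp]) with h5 | h5
  · rw [h5]; exact h4
  · rw [h5]
    calc X * Y * y * z * (X * Y * y * z) = X * Y * y * (z * (X * Y * y)) * z := by group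
      _ = X * Y * y * (X * Y * y * z) * z := by rw [hc.eq]
      _ = (X * Y * y * (X * Y * y)) * (z * z) := by group
      _ = 1 := by rw [h4, h.z_sq, one_mul]

/-- if `x`, `y` have squares in `{1, z}` and `x y` too, the commutator is determined -/
theorem conj_eq_of_sq {x y r s t : G} (hr : Commute r x) (hr' : Commute r y) (hrr : r * r = 1)
    (hs : Commute s x) (hs' : Commute s y) (hss : s * s = 1)
    (hx : x * x = r) (hy : y * y = s) (hxy : x * y * (x * y) = t) :
    x * y * x⁻¹ = t * r * s * y := by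
  have h1 : x⁻¹ = x * r := by
    rw [inv_eq_iff_mul_eq_one]
    calc x * (x * r) = x * x * r := by group
      _ = 1 := by rw [hx, hrr]
  have h2 : y * y * s = 1 := by rw [hy, hss]
  rw [h1, ← hxy]
  calc x * y * (x * r) = x * y * (x * r) * (y * y * s) := by rw [h2, mul_one]
    _ = x * y * (x * (r * y)) * y * s := by group
    _ = x * y * (x * (y * r)) * y * s := by rw [hr'.eq]
    _ = x * y * (x * y) * (r * (y * s)) := by group
    _ = x * y * (x * y) * (r * (s * y)) := by rw [hs'.eq]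
    _ = _ := by group

end general

section nineten

variable {m : ℕ} {z : G} {p : G → Perm (Fin (m + 9))}

theorem cycleType_of_involution (hm : m < 2) (h : Cv (m + 9) z p) {t : G} (ht : Commute t z)
    (htt : t * t = 1) (h1 : t ≠ 1) (hz : t ≠ z) : (p t).cycleType = {2, 2, 2, 2} := by
  have h2 : p t ≠ 1 := by
    intro h3
    rcases h.ker ht h3 with h4 | h4
    · exact h1 h4
    · exact hz h4
  have h3 : p t * p t = 1 := by rw [← h.mul ht ht, htt, h.one]
  rcases cycleType_of_sq hm h3 h2 (h.sgn ht) with h4 | h4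
  · exfalso
    obtain ⟨a, b, c, d, hnd, he⟩ := exists_of_two_two hm h4
    have h5 := h.two ht hnd he
    rw [htt] at h5
    exact h.z_ne h5.symm
  · exact h4

/-- the element swapping `u` and `u z` -/
theorem conj_su (hm : m < 2) (h : Cv (m + 9) z p) {u g : G} (hu : Commute u z) (hg : Commute g z)
    (hpu : p u = su m) (hpg : p g = sg m) : g * u * g⁻¹ = u * z := by
  have e1 : g * g = z := h.two (a := 0) (b := 1) (c := 3) (d := 4) hg
    (by interval_cases m <;> decide) hpg
  have e2 : u * u = 1 := quad h (a := 0) (b := 3) (c := 1) (d := 4) (e := 2) (f := 5) (k := 6)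
    (l := 7) hu (by interval_cases m <;> decide) hpu
  have e3 : g * u * (g * u) = 1 := by
    refine quad h (a := 0) (b := 4) (c := 1) (d := 3) (e := 2) (f := 5) (k := 6)
      (l := 7) (hg.mul_left hu) (by interval_cases m <;> decide) ?_
    rw [h.mul hg hu, hpu, hpg]
    interval_cases m <;> decide
  calc g * u * g⁻¹ = g * u * g * (g * g)⁻¹ := by group
    _ = (g * u * (g * u)) * u⁻¹ * (g * g)⁻¹ := by group
    _ = u * z := by
      rw [e3, e1, h.z_inv, one_mul, inv_eq_of_mul_eq_one_left e2]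

/-- all non-central involutions of the cover are conjugate -/
theorem exists_conj_u (hm : m < 2) (h : Cv (m + 9) z p) {u : G} (hu : Commute u z)
    (hpu : p u = su m) {t : G} (ht : Commute t z) (htt : t * t = 1) (h1 : t ≠ 1) (hz : t ≠ z) :
    ∃ g : G, Commute g z ∧ g * t * g⁻¹ = u := by
  obtain ⟨σ, hσ, hσt⟩ := exists_even_conj_su hm (cycleType_of_involution hm h ht htt h1 hz)
  obtain ⟨g, hg, hgσ⟩ := h.surj hσ
  have e1 : p (g * t * g⁻¹) = p u := by rw [h.conj hg ht, hgσ, hσt, hpu]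
  rcases h.eq_or ((hg.mul_left ht).mul_left hg.inv_left) hu e1 with e2 | e2
  · exact ⟨g, hg, e2⟩
  · have hsg : sign (sg m) = 1 := by interval_cases m <;> decide
    obtain ⟨k, hk, hkp⟩ := h.surj hsg
    refine ⟨k * g, hk.mul_left hg, ?_⟩
    have e3 := conj_su hm h hu hk hpu hkp
    calc k * g * t * (k * g)⁻¹ = k * (g * t * g⁻¹) * k⁻¹ := by group
      _ = k * (u * z) * k⁻¹ := by rw [e2]
      _ = k * u * k⁻¹ * (k * z * k⁻¹) := by group
      _ = u * z * z := by rw [e3, hk.eq, mul_inv_cancel_right]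
      _ = u := by rw [mul_assoc, h.z_sq, mul_one]

theorem exists_conj_mul_z (hm : m < 2) (h : Cv (m + 9) z p) {t : G} (ht : Commute t z)
    (htt : t * t = 1) (h1 : t ≠ 1) (hz : t ≠ z) : ∃ g : G, Commute g z ∧ g * t * g⁻¹ = t * z := by
  have hsu : sign (su m) = 1 := by interval_cases m <;> decide
  have hsg : sign (sg m) = 1 := by interval_cases m <;> decide
  obtain ⟨u, hu, hpu⟩ := h.surj hsu
  obtain ⟨k, hk, hkp⟩ := h.surj hsg
  obtain ⟨g, hg, e⟩ := exists_conj_u hm h hu hpu ht htt h1 hz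
  have e3 := conj_su hm h hu hk hpu hkp
  refine ⟨g⁻¹ * k * g, (hg.inv_left.mul_left hk).mul_left hg, ?_⟩
  calc g⁻¹ * k * g * t * (g⁻¹ * k * g)⁻¹ = g⁻¹ * (k * (g * t * g⁻¹) * k⁻¹) * g := by group
    _ = g⁻¹ * (u * z) * g := by rw [e, e3]
    _ = g⁻¹ * u * (z * g) := by group
    _ = g⁻¹ * u * (g * z) := by rw [hg.eq]
    _ = g⁻¹ * (g * t * g⁻¹) * g * z := by rw [e]; group
    _ = t * z := by group

end nineten

end Cfsg.Agent.SporRec.TwoNine.Basic
end

-- part: SporRec/TwoNine/PermFacts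
section
/-!
# Centralisers of some explicit permutations
-/

set_option autoImplicit false

namespace Cfsg.Agent.SporRec.TwoNine.PermFacts

open Equiv Equiv.Perm
open Cfsg.Agent.SporRec.TwoNine.Perms

variable {m : ℕ}

theorem comm_apply {n : ℕ} {σ τ : Perm (Fin n)} (h : Commute σ τ) (x : Fin n) :
    σ (τ x) = τ (σ x) := by
  rw [← Perm.mul_apply, ← Perm.mul_apply, h.eq]

/-- an involution of type `2^4` does not commute with the 3-cycle `sa` -/
theorem not_commute_sa (hm : m < 2) {σ : Perm (Fin (m + 9))} (h : σ.cycleType = {2, 2, 2, 2})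
    (hc : Commute σ (sa m)) : False := by
  have h2 : ∀ x, σ (σ x) = x := by
    intro x
    have h3 : orderOf σ = 2 := by rw [← lcm_cycleType, h]; rfl
    have h4 : σ ^ 2 = 1 := by rw [← h3]; exact pow_orderOf_eq_one σ
    rw [pow_two] at h4
    rw [← Perm.mul_apply, h4]; rfl
  have e0 : σ 1 = sa m (σ 0) := by
    rw [← comm_apply hc]; congr 1
  have e1 : σ 2 = sa m (σ 1) := by
    rw [← comm_apply hc]; congr 1
  have hmv : sa m (σ 0) ≠ σ 0 := by
    rw [← e0]; intro h3
    have := σ.injective h3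
    revert this; interval_cases m <;> decide
  have hx : σ 0 = 0 ∨ σ 0 = 1 ∨ σ 0 = 2 := by
    generalize σ 0 = x at hmv
    revert x; interval_cases m <;> decide
  have h0 : σ 0 = 0 := by
    rcases hx with h3 | h3 | h3
    · exact h3
    · exfalso
      have h4 := h2 0
      rw [h3, e0, h3] at h4
      revert h4; interval_cases m <;> decide
    · exfalso
      have h4 := h2 0
      rw [h3, e1, e0, h3] at h4
      revert h4; interval_cases m <;> decide
  have h1 : σ 1 = 1 := by rw [e0, h0]; interval_cases m <;> decide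
  have h2' : σ 2 = 2 := by rw [e1, h1]; interval_cases m <;> decide
  have hs : σ.support ⊆ Finset.univ \ {0, 1, 2} := by
    intro x hx
    rw [mem_support] at hx
    simp only [Finset.mem_sdiff, Finset.mem_univ, true_and, Finset.mem_insert,
      Finset.mem_singleton, not_or]
    refine ⟨?_, ?_, ?_⟩ <;> rintro rfl
    · exact hx h0
    · exact hx h1
    · exact hx h2'
  have hcard := Finset.card_le_card hs
  have h8 : σ.support.card = 8 := by rw [← sum_cycleType, h]; rfl
  rw [h8] at hcard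
  revert hcard
  interval_cases m <;> decide

/-- `σ` commuting with `sa` acts on the first block as a power of `sa` -/
theorem exists_sa (hm : m < 2) {σ : Perm (Fin (m + 9))} (hc : Commute σ (sa m)) :
    ∃ i : ℕ, i < 3 ∧ (σ * sa m ^ i) 0 = 0 ∧ (σ * sa m ^ i) 1 = 1 ∧ (σ * sa m ^ i) 2 = 2 := by
  have e0 : σ 1 = sa m (σ 0) := by
    rw [← comm_apply hc]; congr 1
  have e1 : σ 2 = sa m (σ 1) := by
    rw [← comm_apply hc]; congr 1
  have hmv : sa m (σ 0) ≠ σ 0 := by
    rw [← e0]; intro h3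
    have := σ.injective h3
    revert this; interval_cases m <;> decide
  have hx : σ 0 = 0 ∨ σ 0 = 1 ∨ σ 0 = 2 := by
    generalize σ 0 = x at hmv
    revert x; interval_cases m <;> decide
  rcases hx with h3 | h3 | h3
  · refine ⟨0, by omega, ?_, ?_, ?_⟩
    · rw [pow_zero, mul_one, h3]
    · rw [pow_zero, mul_one, e0, h3]; interval_cases m <;> decide
    · rw [pow_zero, mul_one, e1, e0, h3]; interval_cases m <;> decide
  · refine ⟨2, by omega, ?_, ?_, ?_⟩
    · have : (sa m ^ 2) 0 = 2 := by interval_cases m <;> decide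
      rw [Perm.mul_apply, this, e1, e0, h3]; interval_cases m <;> decide
    · have : (sa m ^ 2) 1 = 0 := by interval_cases m <;> decide
      rw [Perm.mul_apply, this, h3]
    · have : (sa m ^ 2) 2 = 1 := by interval_cases m <;> decide
      rw [Perm.mul_apply, this, e0, h3]; interval_cases m <;> decide
  · refine ⟨1, by omega, ?_, ?_, ?_⟩
    · have : (sa m ^ 1) 0 = 1 := by interval_cases m <;> decide
      rw [Perm.mul_apply, this, e0, h3]; interval_cases m <;> decide
    · have : (sa m ^ 1) 1 = 2 := by interval_cases m <;> decide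
      rw [Perm.mul_apply, this, e1, e0, h3]; interval_cases m <;> decide
    · have : (sa m ^ 1) 2 = 0 := by interval_cases m <;> decide
      rw [Perm.mul_apply, this, h3]

theorem isThreeCycle_sa (hm : m < 2) : (sa m).IsThreeCycle := by
  have h1 : (1 : Fin (m + 9)) ≠ 0 := by interval_cases m <;> decide
  have h2 : (1 : Fin (m + 9)) ≠ 2 := by interval_cases m <;> decide
  have h3 : (0 : Fin (m + 9)) ≠ 2 := by interval_cases m <;> decide
  have h := isThreeCycle_swap_mul_swap_same h1 h2 h3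
  rw [swap_comm 1 0] at h
  exact h

theorem isThreeCycle_sb (hm : m < 2) : (sb m).IsThreeCycle := by
  have h1 : (4 : Fin (m + 9)) ≠ 3 := by interval_cases m <;> decide
  have h2 : (4 : Fin (m + 9)) ≠ 5 := by interval_cases m <;> decide
  have h3 : (3 : Fin (m + 9)) ≠ 5 := by interval_cases m <;> decide
  have h := isThreeCycle_swap_mul_swap_same h1 h2 h3
  rw [swap_comm 4 3] at h
  exact h

theorem disjoint_sa_sb (hm : m < 2) : Equiv.Perm.Disjoint (sa m) (sb m) := by
  have h : ∀ x : Fin (m + 9), sa m x = x ∨ sb m x = x := by interval_cases m <;> decide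
  exact h

theorem cycleType_sab (hm : m < 2) : (sa m * sb m).cycleType = {3, 3} := by
  rw [(disjoint_sa_sb hm).cycleType_mul, isThreeCycle_sa hm, isThreeCycle_sb hm]
  rfl

/-- an element of order three commuting with `su` has type `3^2` -/
theorem cycleType_of_commute_su (hm : m < 2) {σ : Perm (Fin (m + 9))} (h3 : σ ^ 3 = 1)
    (h1 : σ ≠ 1) (hc : Commute σ (su m)) : σ.cycleType = {3, 3} := by
  have hp3 : Nat.Prime 3 := by norm_num
  have hfix3 : Fact (Nat.Prime 3) := ⟨hp3⟩
  have ho : orderOf σ = 3 := orderOf_eq_prime h3 h1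
  have hp : (orderOf σ).Prime := by rw [ho]; exact hp3
  have hcube : ∀ x, σ (σ (σ x)) = x := by
    intro x
    have h4 : σ (σ (σ x)) = (σ ^ 3) x := by
      rw [pow_succ, pow_two]; rfl
    rw [h4, h3]; rfl
  obtain ⟨k, hk⟩ := cycleType_prime_order hp
  rw [ho] at hk
  have hsu2 : ∀ x, su m (su m x) = x := by
    interval_cases m <;> decide
  -- `σ` fixes the fixed points of `su`
  have h8 : σ 8 = 8 := by
    have e1 : su m (σ 8) = σ 8 := by
      rw [← comm_apply hc]; congr 1
    have e2 : su m (σ (σ 8)) = σ (σ 8) := by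
      rw [← comm_apply hc, e1]
    have e3 := hcube 8
    have hx : ∀ x : Fin (m + 9), su m x = x → x = 8 ∨ x = Fin.last _ := by
      interval_cases m <;> decide
    rcases hx _ e1 with h4 | h4
    · exact h4
    · rcases hx _ e2 with h5 | h5
      · rw [h5] at e3
        exact e3
      · have h6 : σ (σ 8) = σ 8 := by rw [h5, h4]
        exact σ.injective h6
  have h9 : σ (Fin.last _) = Fin.last _ := by
    have e1 : su m (σ (Fin.last _)) = σ (Fin.last _) := by
      rw [← comm_apply hc]; congr 1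
    have hx : ∀ x : Fin (m + 9), su m x = x → x = 8 ∨ x = Fin.last _ := by
      interval_cases m <;> decide
    rcases hx _ e1 with h4 | h4
    · rw [← h8] at h4
      rw [σ.injective h4, h8]
    · exact h4
  have hs : σ.support ⊆ Finset.univ \ {8, Fin.last _} := by
    intro x hx
    rw [mem_support] at hx
    simp only [Finset.mem_sdiff, Finset.mem_univ, true_and, Finset.mem_insert,
      Finset.mem_singleton, not_or]
    refine ⟨?_, ?_⟩ <;> rintro rfl
    · exact hx h8
    · exact hx h9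
  have hcard := Finset.card_le_card hs
  have hcs : σ.support.card = (k + 1) * 3 := by
    rw [← sum_cycleType, hk, Multiset.sum_replicate, smul_eq_mul]
  rw [hcs] at hcard
  have hcard' : (Finset.univ \ {8, Fin.last (m + 8)} : Finset (Fin (m + 9))).card ≤ 8 := by
    interval_cases m <;> decide
  have hk2 : k < 2 := by omega
  interval_cases k
  · exfalso
    -- a 3-cycle
    have hcyc : σ.IsThreeCycle := by rw [IsThreeCycle, hk]; rfl
    obtain ⟨x, hx⟩ : ∃ x, σ x ≠ x := by
      by_contra hno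
      push Not at hno
      exact h1 (Equiv.ext hno)
    have hx' : σ (su m x) ≠ su m x := by
      rw [comm_apply hc]
      exact fun h4 => hx ((su m).injective h4)
    obtain ⟨i, hi⟩ := hcyc.isCycle.exists_pow_eq hx hx'
    have hsx : su m x ≠ x := by
      intro h4
      have hxx : ∀ x : Fin (m + 9), su m x = x → x = 8 ∨ x = Fin.last _ := by
        interval_cases m <;> decide
      rcases hxx _ h4 with h5 | h5
      · rw [h5] at hx; exact hx h8
      · rw [h5] at hx; exact hx h9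
    -- reduce the exponent
    have hred : su m x = σ x ∨ su m x = σ (σ x) := by
      have e1 : (σ ^ (i % 3)) x = su m x := by
        rw [← hi]
        congr 1
        rw [← ho]
        exact pow_mod_orderOf σ i
      have hi3 : i % 3 < 3 := Nat.mod_lt _ (by omega)
      interval_cases (i % 3)
      · exfalso
        rw [pow_zero] at e1
        exact hsx e1.symm
      · left; rw [← e1, pow_one]
      · right; rw [← e1, pow_two]; rfl
    rcases hred with h4 | h4
    · have h5 := hsu2 x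
      rw [h4, ← comm_apply hc, h4] at h5
      have h6 := hcube x
      rw [h5] at h6
      exact hx h6
    · have h5 := hsu2 x
      rw [h4, ← comm_apply hc, ← comm_apply hc, h4, hcube] at h5
      exact hx h5
  · rw [hk]; rfl

theorem exists_even_conj_sab (hm : m < 2) {σ : Perm (Fin (m + 9))}
    (h : σ.cycleType = {3, 3}) : ∃ g : Perm (Fin (m + 9)), sign g = 1 ∧
      g * σ * g⁻¹ = sa m * sb m := by
  have h1 : IsConj σ (sa m * sb m) := by
    rw [isConj_iff_cycleType_eq, h, cycleType_sab hm]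
  obtain ⟨g, hg⟩ := isConj_iff.1 h1
  by_cases hs : sign g = 1
  · exact ⟨g, hs, hg⟩
  · have hs' : sign g = -1 := (Int.units_eq_one_or _).resolve_left hs
    have h01 : sign (swap (6 : Fin (m + 9)) 7) = -1 := by interval_cases m <;> decide
    have hc : swap (6 : Fin (m + 9)) 7 * (sa m * sb m) * swap 6 7 = sa m * sb m := by
      interval_cases m <;> decide
    refine ⟨swap 6 7 * g, ?_, ?_⟩
    · rw [map_mul, hs', h01]; rfl
    · have h2 : swap 6 7 * g * σ * (swap 6 7 * g)⁻¹ = swap 6 7 * (g * σ * g⁻¹) * (swap 6 7)⁻¹ := by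
        group
      rw [h2, hg, swap_inv, hc]

end Cfsg.Agent.SporRec.TwoNine.PermFacts
end

-- part: SporRec/TwoNine/PermFacts2
section
/-!
# Centralisers of some explicit permutations, continued
-/

set_option autoImplicit false

namespace Cfsg.Agent.SporRec.TwoNine.PermFacts2

open Equiv Equiv.Perm
open Cfsg.Agent.SporRec.TwoNine.Perms Cfsg.Agent.SporRec.TwoNine.PermFacts

variable {m : ℕ}

theorem cases_pt (hm : m < 2) (y : Fin (m + 9)) : y = 0 ∨ y = 1 ∨ y = 2 ∨ y = 3 ∨ y = 4 ∨ y = 5 ∨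
    y = 6 ∨ y = 7 ∨ y = 8 ∨ y = Fin.last _ := by
  revert y; interval_cases m <;> decide

/-- two permutations commuting with `s` and agreeing at `x` agree at `s x` -/
theorem agree {n : ℕ} {σ τ s : Perm (Fin n)} (h1 : Commute σ s) (h2 : Commute τ s) {x : Fin n}
    (h : σ x = τ x) : σ (s x) = τ (s x) := by
  rw [comm_apply h1, comm_apply h2, h]

/-- centraliser of `su` and `sa * sb` -/
theorem commute_su_sab (hm : m < 2) {σ : Perm (Fin (m + 9))} (hs : sign σ = 1)
    (h1 : Commute σ (su m)) (h2 : Commute σ (sa m * sb m)) :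
    ∃ i < 3, ∃ j < 2, σ = (sa m * sb m) ^ i * su m ^ j ∨
      (m = 1 ∧ σ = (sa m * sb m) ^ i * su m ^ j * (swap 6 7 * swap 8 (Fin.last _))) := by
  have hcomm : Commute (sa m * sb m) (su m) := by
    change sa m * sb m * su m = su m * (sa m * sb m)
    interval_cases m <;> decide
  have hmv : (sa m * sb m) (σ 0) ≠ σ 0 := by
    rw [← comm_apply h2]; intro h3
    have := σ.injective h3
    revert this; interval_cases m <;> decide
  obtain ⟨i, j, hij⟩ : ∃ i : Fin 3, ∃ j : Fin 2,
      ((sa m * sb m) ^ (i : ℕ) * su m ^ (j : ℕ)) 0 = σ 0 := by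
    generalize σ 0 = x at hmv
    revert x; interval_cases m <;> decide
  set t := (sa m * sb m) ^ (i : ℕ) * su m ^ (j : ℕ) with ht
  have ht1 : Commute t (su m) := (hcomm.pow_left i).mul_left ((Commute.refl _).pow_left j)
  have ht2 : Commute t (sa m * sb m) :=
    ((Commute.refl _).pow_left i).mul_left (hcomm.symm.pow_left j)
  have hts : sign t = 1 := by
    have e1 : sign (sa m * sb m) = 1 := by interval_cases m <;> decide
    have e2 : sign (su m) = 1 := by interval_cases m <;> decide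
    rw [ht, map_mul, map_pow, map_pow, e1, e2, one_pow, one_pow, one_mul]
  set σ' := t⁻¹ * σ with hσ'
  have hσ : σ = t * σ' := by rw [hσ', mul_inv_cancel_left]
  have c1 : Commute σ' (su m) := ht1.inv_left.mul_left h1
  have c2 : Commute σ' (sa m * sb m) := ht2.inv_left.mul_left h2
  have hs' : sign σ' = 1 := by rw [hσ', map_mul, map_inv, hts, hs, inv_one, one_mul]
  have f0 : σ' 0 = 0 := by
    rw [hσ', Perm.mul_apply, ← hij, ← Perm.mul_apply, inv_mul_cancel]; rfl
  have one_comm : ∀ s : Perm (Fin (m + 9)), Commute 1 s := fun s => Commute.one_left s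
  have f1 : σ' 1 = 1 := by
    have := agree c2 (one_comm _) (x := 0) f0
    have e : (sa m * sb m) 0 = 1 := by interval_cases m <;> decide
    rw [e] at this; exact this
  have f2 : σ' 2 = 2 := by
    have := agree c2 (one_comm _) (x := 1) f1
    have e : (sa m * sb m) 1 = 2 := by interval_cases m <;> decide
    rw [e] at this; exact this
  have f3 : σ' 3 = 3 := by
    have := agree c1 (one_comm _) (x := 0) f0
    have e : (su m) 0 = 3 := by interval_cases m <;> decide
    rw [e] at this; exact this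
  have f4 : σ' 4 = 4 := by
    have := agree c1 (one_comm _) (x := 1) f1
    have e : (su m) 1 = 4 := by interval_cases m <;> decide
    rw [e] at this; exact this
  have f5 : σ' 5 = 5 := by
    have := agree c1 (one_comm _) (x := 2) f2
    have e : (su m) 2 = 5 := by interval_cases m <;> decide
    rw [e] at this; exact this
  -- the point 6
  have f6 : σ' 6 = 6 ∨ σ' 6 = 7 := by
    have hmv6 : su m (σ' 6) ≠ σ' 6 := by
      rw [← comm_apply c1]; intro h3
      have := σ'.injective h3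
      revert this; interval_cases m <;> decide
    have hne : ∀ y : Fin (m + 9), σ' y = y → y ≠ 6 → σ' 6 ≠ y := by
      intro y hy hy6 h3
      rw [← hy] at h3
      exact hy6 (σ'.injective h3).symm
    have g0 := hne 0 f0 (by interval_cases m <;> decide)
    have g1 := hne 1 f1 (by interval_cases m <;> decide)
    have g2 := hne 2 f2 (by interval_cases m <;> decide)
    have g3 := hne 3 f3 (by interval_cases m <;> decide)
    have g4 := hne 4 f4 (by interval_cases m <;> decide)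
    have g5 := hne 5 f5 (by interval_cases m <;> decide)
    generalize σ' 6 = x at hmv6 g0 g1 g2 g3 g4 g5
    revert x; interval_cases m <;> decide
  have f8 : σ' 8 = 8 ∨ σ' 8 = Fin.last _ := by
    have e1 : su m (σ' 8) = σ' 8 := by
      rw [← comm_apply c1]; congr 1
    generalize σ' 8 = x at e1
    revert x; interval_cases m <;> decide
  have f9 : σ' (Fin.last _) = 8 ∨ σ' (Fin.last _) = Fin.last _ := by
    have e1 : su m (σ' (Fin.last _)) = σ' (Fin.last _) := by
      rw [← comm_apply c1]; congr 1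
    generalize σ' (Fin.last _) = x at e1
    revert x; interval_cases m <;> decide
  have f7 : σ' 7 = su m (σ' 6) := by
    rw [← comm_apply c1]; congr 1
  have f89 : (σ' 8 = 8 ∧ σ' (Fin.last _) = Fin.last _) ∨
      (m = 1 ∧ σ' 8 = Fin.last _ ∧ σ' (Fin.last _) = 8) := by
    rcases f8 with g8 | g8
    · left
      refine ⟨g8, ?_⟩
      rcases f9 with g9 | g9
      · have h5 : σ' (Fin.last _) = σ' 8 := by rw [g8, g9]
        rw [σ'.injective h5]; exact g8
      · exact g9
    · rcases f9 with g9 | g9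
      · by_cases hm1 : m = 1
        · exact Or.inr ⟨hm1, g8, g9⟩
        · left
          have hm0 : m = 0 := by omega
          subst hm0
          exact ⟨g8, g8⟩
      · left
        have h5 : (Fin.last _ : Fin (m + 9)) = 8 := by
          have h5 : σ' (Fin.last _) = σ' 8 := by rw [g8, g9]
          exact σ'.injective h5
        exact ⟨by rw [g8, h5], g9⟩
  have hall : ∀ τ : Perm (Fin (m + 9)), τ 0 = 0 → τ 1 = 1 → τ 2 = 2 → τ 3 = 3 → τ 4 = 4 →
      τ 5 = 5 → σ' 6 = τ 6 → σ' 7 = τ 7 → σ' 8 = τ 8 → σ' (Fin.last _) = τ (Fin.last _) →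
      σ' = τ := by
    intro τ t0 t1 t2 t3 t4 t5 t6 t7 t8 t9
    refine Equiv.ext fun y => ?_
    rcases cases_pt hm y with rfl | rfl | rfl | rfl | rfl | rfl | rfl | rfl | rfl | rfl
    · rw [f0, t0]
    · rw [f1, t1]
    · rw [f2, t2]
    · rw [f3, t3]
    · rw [f4, t4]
    · rw [f5, t5]
    · exact t6
    · exact t7
    · exact t8
    · exact t9
  refine ⟨i, i.2, j, j.2, ?_⟩
  rcases f6 with g6 | g6 <;> rcases f89 with ⟨g8, g9⟩ | ⟨hm1, g8, g9⟩
  · -- identity
    left
    have : σ' = 1 := by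
      refine hall 1 rfl rfl rfl rfl rfl rfl g6 ?_ g8 g9
      rw [f7, g6]; interval_cases m <;> decide
    rw [hσ, this, mul_one]
  · -- swap of the last two points, odd
    exfalso
    clear_value σ' t
    subst hm1
    have h5 : σ' = swap 8 9 := by
      refine hall (swap 8 9) (by decide) (by decide) (by decide) (by decide) (by decide)
        (by decide) ?_ ?_ ?_ ?_
      · rw [g6]; decide
      · rw [f7, g6]; decide
      · rw [g8]; decide
      · rw [g9]; decide
    rw [h5] at hs'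
    revert hs'; decide
  · exfalso
    have h5 : σ' = swap 6 7 := by
      refine hall (swap 6 7) ?_ ?_ ?_ ?_ ?_ ?_ ?_ ?_ ?_ ?_
      · interval_cases m <;> decide
      · interval_cases m <;> decide
      · interval_cases m <;> decide
      · interval_cases m <;> decide
      · interval_cases m <;> decide
      · interval_cases m <;> decide
      · rw [g6]; interval_cases m <;> decide
      · rw [f7, g6]; interval_cases m <;> decide
      · rw [g8]; interval_cases m <;> decide
      · rw [g9]; interval_cases m <;> decide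
    rw [h5] at hs'
    revert hs'; interval_cases m <;> decide
  · right
    refine ⟨hm1, ?_⟩
    have h5 : σ' = swap 6 7 * swap 8 (Fin.last _) := by
      refine hall (swap 6 7 * swap 8 (Fin.last _)) ?_ ?_ ?_ ?_ ?_ ?_ ?_ ?_ ?_ ?_
      · interval_cases m <;> decide
      · interval_cases m <;> decide
      · interval_cases m <;> decide
      · interval_cases m <;> decide
      · interval_cases m <;> decide
      · interval_cases m <;> decide
      · rw [g6]; interval_cases m <;> decide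
      · rw [f7, g6]; interval_cases m <;> decide
      · rw [g8]; interval_cases m <;> decide
      · rw [g9]; interval_cases m <;> decide
    rw [hσ, h5]

end Cfsg.Agent.SporRec.TwoNine.PermFacts2
end

-- part: SporRec/TwoNine/PermFacts3
section
/-!
# Centralisers of some explicit permutations: planes in the group generated by three 3-cycles
-/

set_option autoImplicit false

namespace Cfsg.Agent.SporRec.TwoNine.PermFacts3

open Equiv Equiv.Perm
open Cfsg.Agent.SporRec.TwoNine.Perms Cfsg.Agent.SporRec.TwoNine.PermFacts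
  Cfsg.Agent.SporRec.TwoNine.PermFacts2

variable {m : ℕ}

theorem comm_ab (hm : m < 2) : Commute (sa m) (sb m) := by
  change sa m * sb m = sb m * sa m
  interval_cases m <;> decide

theorem comm_ac (hm : m < 2) : Commute (sa m) (sc m) := by
  change sa m * sc m = sc m * sa m
  interval_cases m <;> decide

theorem comm_bc (hm : m < 2) : Commute (sb m) (sc m) := by
  change sb m * sc m = sc m * sb m
  interval_cases m <;> decide

theorem sa_cube (hm : m < 2) : sa m ^ 3 = 1 := by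
  rw [sa]; exact cube_of_cycle (by interval_cases m <;> decide) (by interval_cases m <;> decide)
    (by interval_cases m <;> decide)

theorem sb_cube (hm : m < 2) : sb m ^ 3 = 1 := by
  rw [sb]; exact cube_of_cycle (by interval_cases m <;> decide) (by interval_cases m <;> decide)
    (by interval_cases m <;> decide)

theorem sc_cube (hm : m < 2) : sc m ^ 3 = 1 := by
  rw [sc]; exact cube_of_cycle (by interval_cases m <;> decide) (by interval_cases m <;> decide)
    (by interval_cases m <;> decide)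

/-- a permutation commuting with two elements `sa * sb`, `sa * sc ^ e` is a product of the
three 3-cycles -/
theorem commute_plane (hm : m < 2) {e : ℕ} (he : e = 1 ∨ e = 2) {σ : Perm (Fin (m + 9))}
    (h1 : Commute σ (sa m * sb m)) (h2 : Commute σ (sa m * sc m ^ e)) :
    ∃ i < 3, ∃ j < 3, ∃ k < 3, σ = sa m ^ i * sb m ^ j * sc m ^ k := by
  have hfixmv : ∀ (x : Fin (m + 9)) (s : Perm (Fin (m + 9))), Commute σ s → s x ≠ x →
      s (σ x) ≠ σ x := by
    intro x s hs hx h3
    rw [← comm_apply hs] at h3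
    exact hx (σ.injective h3)
  have hfix : ∀ (x : Fin (m + 9)) (s : Perm (Fin (m + 9))), Commute σ s → s x = x →
      s (σ x) = σ x := by
    intro x s hs hx
    rw [← comm_apply hs, hx]
  have h3 : Commute σ (sa m * sb m * (sa m * sc m ^ e)⁻¹) := h1.mul_right h2.inv_right
  obtain ⟨i, hi⟩ : ∃ i : Fin 3, (sa m ^ (i : ℕ)) 0 = σ 0 := by
    have e1 := hfixmv 0 _ h1 (by interval_cases m <;> decide)
    have e2 := hfix 0 _ h3 (by rcases he with rfl | rfl <;> interval_cases m <;> decide)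
    generalize σ 0 = x at e1 e2
    rcases he with rfl | rfl <;> revert x <;> interval_cases m <;> decide
  obtain ⟨j, hj⟩ : ∃ j : Fin 3, (sb m ^ (j : ℕ)) 3 = σ 3 := by
    have e1 := hfixmv 3 _ h1 (by interval_cases m <;> decide)
    have e2 := hfix 3 _ h2 (by rcases he with rfl | rfl <;> interval_cases m <;> decide)
    generalize σ 3 = x at e1 e2
    rcases he with rfl | rfl <;> revert x <;> interval_cases m <;> decide
  obtain ⟨k, hk⟩ : ∃ k : Fin 3, (sc m ^ (k : ℕ)) 6 = σ 6 := by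
    have e1 := hfixmv 6 _ h2 (by rcases he with rfl | rfl <;> interval_cases m <;> decide)
    have e2 := hfix 6 _ h1 (by interval_cases m <;> decide)
    generalize σ 6 = x at e1 e2
    rcases he with rfl | rfl <;> revert x <;> interval_cases m <;> decide
  refine ⟨i, i.2, j, j.2, k, k.2, ?_⟩
  set t := sa m ^ (i : ℕ) * sb m ^ (j : ℕ) * sc m ^ (k : ℕ) with ht
  have hall : ∀ s : Perm (Fin (m + 9)), Commute (sa m) s → Commute (sb m) s →
      Commute (sc m) s → Commute t s := fun s a1 a2 a3 =>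
    ((a1.pow_left _).mul_left (a2.pow_left _)).mul_left (a3.pow_left _)
  have t1 : Commute t (sa m * sb m) := hall _ ((Commute.refl _).mul_right (comm_ab hm))
    ((comm_ab hm).symm.mul_right (Commute.refl _)) ((comm_ac hm).symm.mul_right (comm_bc hm).symm)
  have t2 : Commute t (sa m * sc m ^ e) := hall _ ((Commute.refl _).mul_right
    ((comm_ac hm).pow_right _)) ((comm_ab hm).symm.mul_right ((comm_bc hm).pow_right _))
    ((comm_ac hm).symm.mul_right ((Commute.refl _).pow_right _))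
  have hv : (sa m ^ (i : ℕ)) 0 = t 0 ∧ (sb m ^ (j : ℕ)) 3 = t 3 ∧ (sc m ^ (k : ℕ)) 6 = t 6 := by
    rw [ht]
    clear hi hj hk ht t1 t2 hall
    revert i j k; interval_cases m <;> decide
  have g0 : σ 0 = t 0 := by rw [← hi]; exact hv.1
  have g3 : σ 3 = t 3 := by rw [← hj]; exact hv.2.1
  have g6 : σ 6 = t 6 := by rw [← hk]; exact hv.2.2
  clear_value t
  have g1 : σ 1 = t 1 := by
    have := agree h1 t1 g0
    have e : (sa m * sb m) 0 = 1 := by interval_cases m <;> decide
    rw [e] at this; exact this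
  have g2 : σ 2 = t 2 := by
    have := agree h1 t1 g1
    have e : (sa m * sb m) 1 = 2 := by interval_cases m <;> decide
    rw [e] at this; exact this
  have g4 : σ 4 = t 4 := by
    have := agree h1 t1 g3
    have e : (sa m * sb m) 3 = 4 := by interval_cases m <;> decide
    rw [e] at this; exact this
  have g5 : σ 5 = t 5 := by
    have := agree h1 t1 g4
    have e : (sa m * sb m) 4 = 5 := by interval_cases m <;> decide
    rw [e] at this; exact this
  have g78 : σ 7 = t 7 ∧ σ 8 = t 8 := by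
    have c1 := agree h2 t2 g6
    have c2 := agree h2 t2 c1
    rcases he with rfl | rfl
    · have e1 : (sa m * sc m ^ 1) 6 = 7 := by interval_cases m <;> decide
      have e2 : (sa m * sc m ^ 1) 7 = 8 := by interval_cases m <;> decide
      rw [e1, e2] at c2
      rw [e1] at c1
      exact ⟨c1, c2⟩
    · have e1 : (sa m * sc m ^ 2) 6 = 8 := by interval_cases m <;> decide
      have e2 : (sa m * sc m ^ 2) 8 = 7 := by interval_cases m <;> decide
      rw [e1, e2] at c2
      rw [e1] at c1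
      exact ⟨c2, c1⟩
  obtain ⟨g7, g8⟩ := g78
  have g9 : σ (Fin.last _) = t (Fin.last _) := by
    by_cases hl : (Fin.last (m + 8)) = 8
    · rw [hl]; exact g8
    · have key : ∀ τ : Perm (Fin (m + 9)), Commute τ (sa m * sb m) → Commute τ (sa m * sc m ^ e) →
          τ (Fin.last _) = Fin.last _ := by
        intro τ c1 c2
        have f1 : (sa m * sb m) (τ (Fin.last _)) = τ (Fin.last _) := by
          rw [← comm_apply c1]; congr 1
        have f2 : (sa m * sc m ^ e) (τ (Fin.last _)) = τ (Fin.last _) := by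
          rw [← comm_apply c2]; congr 1
          rcases he with rfl | rfl <;> revert hl <;> interval_cases m <;> decide
        generalize τ (Fin.last _) = x at f1 f2
        rcases he with rfl | rfl <;> revert x hl <;> interval_cases m <;> decide
      rw [key σ h1 h2, key t t1 t2]
  refine Equiv.ext fun y => ?_
  rcases cases_pt hm y with rfl | rfl | rfl | rfl | rfl | rfl | rfl | rfl | rfl | rfl
  · exact g0
  · exact g1
  · exact g2
  · exact g3
  · exact g4
  · exact g5
  · exact g6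
  · exact g7
  · exact g8
  · exact g9

/-- a permutation inverting two elements `sa * sb`, `sa * sc ^ e` is odd -/
theorem sign_of_inverts (hm : m < 2) {e : ℕ} (he : e = 1 ∨ e = 2) {σ : Perm (Fin (m + 9))}
    (h1 : σ * (sa m * sb m) * σ⁻¹ = (sa m * sb m)⁻¹)
    (h2 : σ * (sa m * sc m ^ e) * σ⁻¹ = (sa m * sc m ^ e)⁻¹) : sign σ ≠ 1 := by
  set t : Perm (Fin (m + 9)) := swap 0 1 * swap 3 4 * swap 6 7 with ht
  have t1 : t * (sa m * sb m)⁻¹ * t⁻¹ = sa m * sb m := by
    rw [ht]; interval_cases m <;> decide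
  have t2 : t * (sa m * sc m ^ e)⁻¹ * t⁻¹ = sa m * sc m ^ e := by
    rw [ht]; rcases he with rfl | rfl <;> interval_cases m <;> decide
  have c1 : Commute (t * σ) (sa m * sb m) := by
    refine mul_inv_eq_iff_eq_mul.1 ?_
    rw [mul_inv_rev]
    calc t * σ * (sa m * sb m) * (σ⁻¹ * t⁻¹) = t * (σ * (sa m * sb m) * σ⁻¹) * t⁻¹ := by group
      _ = sa m * sb m := by rw [h1, t1]
  have c2 : Commute (t * σ) (sa m * sc m ^ e) := by
    refine mul_inv_eq_iff_eq_mul.1 ?_
    rw [mul_inv_rev]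
    calc t * σ * (sa m * sc m ^ e) * (σ⁻¹ * t⁻¹)
        = t * (σ * (sa m * sc m ^ e) * σ⁻¹) * t⁻¹ := by group
      _ = sa m * sc m ^ e := by rw [h2, t2]
  obtain ⟨i, -, j, -, k, -, hijk⟩ := commute_plane hm he c1 c2
  have s1 : sign (t * σ) = 1 := by
    have ea : sign (sa m) = 1 := by interval_cases m <;> decide
    have eb : sign (sb m) = 1 := by interval_cases m <;> decide
    have ec : sign (sc m) = 1 := by interval_cases m <;> decide
    rw [hijk, map_mul, map_mul, map_pow, map_pow, map_pow, ea, eb, ec, one_pow, one_pow,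
      one_pow, one_mul, one_mul]
  have st : sign t = -1 := by rw [ht]; interval_cases m <;> decide
  intro hs
  rw [map_mul, st, hs, mul_one] at s1
  exact absurd s1 (by decide)

/-- elements of the group generated by the three 3-cycles which commute with `su` -/
theorem commute_su_of (hm : m < 2) (i j k : Fin 3)
    (h : Commute (sa m ^ (i : ℕ) * sb m ^ (j : ℕ) * sc m ^ (k : ℕ)) (su m)) : i = j ∧ k = 0 := by
  have h0 := comm_apply h 0
  have h6 := comm_apply h 6
  clear h
  revert i j k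
  interval_cases m <;> decide

end Cfsg.Agent.SporRec.TwoNine.PermFacts3
end

-- part: SporRec/TwoNine/Lifts
section
/-!
# The lifts of the basic permutations
-/

set_option autoImplicit false

namespace Cfsg.Agent.SporRec.TwoNine.Lifts

open Equiv Equiv.Perm
open Cfsg.Agent.SporRec.TwoNine.Cv Cfsg.Agent.SporRec.TwoNine.Perms
  Cfsg.Agent.SporRec.TwoNine.PermFacts Cfsg.Agent.SporRec.TwoNine.PermFacts2
  Cfsg.Agent.SporRec.TwoNine.PermFacts3 Cfsg.Agent.SporRec.TwoNine.Basic

/-- the cover with the chosen lifts -/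
structure Data (G : Type*) [Group G] (m : ℕ) where
  z : G
  p : G → Perm (Fin (m + 9))
  hm : m < 2
  cv : Cv (m + 9) z p
  a : G
  b : G
  c : G
  u : G
  g : G
  d : G
  az : Commute a z
  bz : Commute b z
  cz : Commute c z
  uz : Commute u z
  gz : Commute g z
  dz : Commute d z
  a3 : a ^ 3 = 1
  b3 : b ^ 3 = 1
  c3 : c ^ 3 = 1
  d3 : d ^ 3 = 1
  pa : p a = sa m
  pb : p b = sb m
  pc : p c = sc m
  pu : p u = su m
  pg : p g = sg m
  pd : p d = sd m

variable {G : Type*} [Group G] {m : ℕ}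

theorem exists_data (hm : m < 2) {z : G} {p : G → Perm (Fin (m + 9))} (h : Cv (m + 9) z p) :
    ∃ D : Data G m, D.z = z ∧ D.p = p := by
  obtain ⟨a, az, a3, pa⟩ := h.exists_cube (sa_cube hm)
  obtain ⟨b, bz, b3, pb⟩ := h.exists_cube (sb_cube hm)
  obtain ⟨c, cz, c3, pc⟩ := h.exists_cube (sc_cube hm)
  obtain ⟨d, dz, d3, pd⟩ := h.exists_cube (σ := sd m) (by interval_cases m <;> decide)
  obtain ⟨u, uz, pu⟩ := h.surj (σ := su m) (by interval_cases m <;> decide)
  obtain ⟨g, gz, pg⟩ := h.surj (σ := sg m) (by interval_cases m <;> decide)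
  exact ⟨⟨z, p, hm, h, a, b, c, u, g, d, az, bz, cz, uz, gz, dz, a3, b3, c3, d3, pa, pb, pc, pu,
    pg, pd⟩, rfl, rfl⟩

namespace Data

/-- transport along a conjugation -/
def conj (D : Data G m) (x : G) : Data G m where
  z := x * D.z * x⁻¹
  p := fun y => D.p (x⁻¹ * y * x)
  hm := D.hm
  cv := D.cv.transport x
  a := x * D.a * x⁻¹
  b := x * D.b * x⁻¹
  c := x * D.c * x⁻¹
  u := x * D.u * x⁻¹
  g := x * D.g * x⁻¹
  d := x * D.d * x⁻¹
  az := SemiconjBy.conj_iff.2 D.az
  bz := SemiconjBy.conj_iff.2 D.bz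
  cz := SemiconjBy.conj_iff.2 D.cz
  uz := SemiconjBy.conj_iff.2 D.uz
  gz := SemiconjBy.conj_iff.2 D.gz
  dz := SemiconjBy.conj_iff.2 D.dz
  a3 := by rw [conj_pow, D.a3]; group
  b3 := by rw [conj_pow, D.b3]; group
  c3 := by rw [conj_pow, D.c3]; group
  d3 := by rw [conj_pow, D.d3]; group
  pa := by rw [← D.pa]; congr 1; group
  pb := by rw [← D.pb]; congr 1; group
  pc := by rw [← D.pc]; congr 1; group
  pu := by rw [← D.pu]; congr 1; group
  pg := by rw [← D.pg]; congr 1; group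
  pd := by rw [← D.pd]; congr 1; group

variable (D : Data G m)

theorem z_inv : D.z⁻¹ = D.z := D.cv.z_inv

theorem zz : D.z * D.z = 1 := D.cv.z_sq

theorem comm_ab : Commute D.a D.b := D.cv.comm_cube D.az D.bz D.b3 (by
  rw [D.pa, D.pb]; exact (PermFacts3.comm_ab D.hm).eq)

theorem comm_ac : Commute D.a D.c := D.cv.comm_cube D.az D.cz D.c3 (by
  rw [D.pa, D.pc]; exact (PermFacts3.comm_ac D.hm).eq)

theorem comm_bc : Commute D.b D.c := D.cv.comm_cube D.bz D.cz D.c3 (by
  rw [D.pb, D.pc]; exact (PermFacts3.comm_bc D.hm).eq)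

theorem u_a : D.u * D.a * D.u⁻¹ = D.b := D.cv.conj_cube D.uz D.az D.bz D.a3 D.b3 (by
  rw [D.pu, D.pa, D.pb]; have := D.hm; interval_cases m <;> decide)

theorem u_b : D.u * D.b * D.u⁻¹ = D.a := D.cv.conj_cube D.uz D.bz D.az D.b3 D.a3 (by
  rw [D.pu, D.pa, D.pb]; have := D.hm; interval_cases m <;> decide)

theorem u_c : D.u * D.c * D.u⁻¹ = D.c⁻¹ := D.cv.inv_cube D.uz D.cz D.c3 (by
  rw [D.pu, D.pc]; have := D.hm; interval_cases m <;> decide)

theorem g_a : D.g * D.a * D.g⁻¹ = D.a⁻¹ := D.cv.inv_cube D.gz D.az D.a3 (by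
  rw [D.pg, D.pa]; have := D.hm; interval_cases m <;> decide)

theorem g_b : D.g * D.b * D.g⁻¹ = D.b⁻¹ := D.cv.inv_cube D.gz D.bz D.b3 (by
  rw [D.pg, D.pb]; have := D.hm; interval_cases m <;> decide)

theorem g_c : Commute D.g D.c := D.cv.comm_cube D.gz D.cz D.c3 (by
  rw [D.pg, D.pc]; have := D.hm; interval_cases m <;> decide)

theorem d_a : D.d * D.a * D.d⁻¹ = D.b := D.cv.conj_cube D.dz D.az D.bz D.a3 D.b3 (by
  rw [D.pd, D.pa, D.pb]; have := D.hm; interval_cases m <;> decide)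

theorem d_b : D.d * D.b * D.d⁻¹ = D.c := D.cv.conj_cube D.dz D.bz D.cz D.b3 D.c3 (by
  rw [D.pd, D.pb, D.pc]; have := D.hm; interval_cases m <;> decide)

theorem d_c : D.d * D.c * D.d⁻¹ = D.a := D.cv.conj_cube D.dz D.cz D.az D.c3 D.a3 (by
  rw [D.pd, D.pc, D.pa]; have := D.hm; interval_cases m <;> decide)

theorem g_u : D.g * D.u * D.g⁻¹ = D.u * D.z := conj_su D.hm D.cv D.uz D.gz D.pu D.pg

theorem gg : D.g * D.g = D.z := D.cv.two (a := 0) (b := 1) (c := 3) (d := 4) D.gz
    (by have := D.hm; interval_cases m <;> decide) D.pg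

theorem uu : D.u * D.u = 1 := quad D.cv (a := 0) (b := 3) (c := 1) (d := 4) (e := 2) (f := 5)
    (k := 6) (l := 7) D.uz (by have := D.hm; interval_cases m <;> decide) D.pu

theorem u_inv : D.u⁻¹ = D.u := inv_eq_of_mul_eq_one_left D.uu

theorem u_ne_one : D.u ≠ 1 := by
  intro h
  have h1 := D.pu
  rw [h, D.cv.one] at h1
  have := D.hm
  revert h1; interval_cases m <;> decide

theorem u_ne_z : D.u ≠ D.z := by
  intro h
  have h1 := D.pu
  rw [h, D.cv.pz] at h1
  have := D.hm
  revert h1; interval_cases m <;> decide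

theorem z_ne_one : D.z ≠ 1 := D.cv.z_ne

/-- the product of the first two 3-cycles -/
def r : G := D.a * D.b

theorem rz : Commute D.r D.z := D.az.mul_left D.bz

theorem ra : Commute D.r D.a := (Commute.refl _).mul_left D.comm_ab.symm

theorem rb : Commute D.r D.b := D.comm_ab.mul_left (Commute.refl _)

theorem rc : Commute D.r D.c := D.comm_ac.mul_left D.comm_bc

theorem r3 : D.r ^ 3 = 1 := by rw [r, D.comm_ab.mul_pow, D.a3, D.b3, one_mul]

theorem ru : Commute D.r D.u := by
  have h1 : D.u * D.r * D.u⁻¹ = D.r := by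
    calc D.u * (D.a * D.b) * D.u⁻¹ = (D.u * D.a * D.u⁻¹) * (D.u * D.b * D.u⁻¹) := by group
      _ = D.r := by rw [D.u_a, D.u_b, ← D.comm_ab.eq]; rfl
  exact (mul_inv_eq_iff_eq_mul.1 h1).symm

theorem g_r : D.g * D.r * D.g⁻¹ = D.r⁻¹ := by
  calc D.g * (D.a * D.b) * D.g⁻¹ = (D.g * D.a * D.g⁻¹) * (D.g * D.b * D.g⁻¹) := by group
    _ = D.r⁻¹ := by rw [D.g_a, D.g_b, D.comm_ab.inv_inv.eq, ← mul_inv_rev]; rfl

theorem pr : D.p D.r = sa m * sb m := by rw [r, D.cv.mul D.az D.bz, D.pa, D.pb]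

theorem r_ne_one : D.r ≠ 1 := by
  intro h
  have h1 := D.pr
  rw [h, D.cv.one] at h1
  have := D.hm
  revert h1; interval_cases m <;> decide

/-- the group generated by the three 3-cycles -/
def A : Subgroup G := Subgroup.closure {D.a, D.b, D.c}

theorem aA : D.a ∈ D.A := Subgroup.subset_closure (by simp)

theorem bA : D.b ∈ D.A := Subgroup.subset_closure (by simp)

theorem cA : D.c ∈ D.A := Subgroup.subset_closure (by simp)

theorem rA : D.r ∈ D.A := D.A.mul_mem D.aA D.bA

theorem pow_mod {x : G} (hx : x ^ 3 = 1) (i : ℕ) : x ^ (i % 3) = x ^ i := by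
  conv_rhs => rw [← Nat.mod_add_div i 3, pow_add, pow_mul, hx, one_pow, mul_one]

/-- elements of `A` -/
theorem mem_A {x : G} : x ∈ D.A ↔ ∃ i j k : Fin 3, x = D.a ^ (i : ℕ) * D.b ^ (j : ℕ) * D.c ^ (k : ℕ) := by
  constructor
  · intro hx
    have key : ∃ i j k : ℕ, x = D.a ^ i * D.b ^ j * D.c ^ k := by
      induction hx using Subgroup.closure_induction with
      | mem y hy =>
        rcases hy with rfl | rfl | rfl
        · exact ⟨1, 0, 0, by simp⟩
        · exact ⟨0, 1, 0, by simp⟩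
        · exact ⟨0, 0, 1, by simp⟩
      | one => exact ⟨0, 0, 0, by simp⟩
      | mul y w _ _ hy hw =>
        obtain ⟨i, j, k, rfl⟩ := hy
        obtain ⟨i', j', k', rfl⟩ := hw
        refine ⟨i + i', j + j', k + k', ?_⟩
        rw [pow_add, pow_add, pow_add]
        have c1 := (D.comm_ac.pow_pow i' k).eq
        have c2 := (D.comm_ab.pow_pow i' j).eq
        have c3 := (D.comm_bc.pow_pow j' k).eq
        calc D.a ^ i * D.b ^ j * D.c ^ k * (D.a ^ i' * D.b ^ j' * D.c ^ k')
            = D.a ^ i * D.b ^ j * (D.c ^ k * D.a ^ i') * D.b ^ j' * D.c ^ k' := by group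
          _ = D.a ^ i * (D.b ^ j * D.a ^ i') * (D.c ^ k * D.b ^ j') * D.c ^ k' := by
            rw [← c1]; group
          _ = D.a ^ i * D.a ^ i' * (D.b ^ j * D.b ^ j') * (D.c ^ k * D.c ^ k') := by
            rw [← c2, ← c3]; group
      | inv y _ hy =>
        obtain ⟨i, j, k, rfl⟩ := hy
        refine ⟨2 * i, 2 * j, 2 * k, ?_⟩
        have e : ∀ {w : G} (_ : w ^ 3 = 1) (i : ℕ), (w ^ i)⁻¹ = w ^ (2 * i) := by
          intro w hw i
          rw [inv_eq_iff_mul_eq_one, ← pow_add]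
          have : i + 2 * i = 3 * i := by ring
          rw [this, pow_mul, hw, one_pow]
        rw [mul_inv_rev, mul_inv_rev, e D.a3, e D.b3, e D.c3]
        have c1 := (D.comm_ac.pow_pow (2 * i) (2 * k)).eq
        have c2 := (D.comm_ab.pow_pow (2 * i) (2 * j)).eq
        have c3 := (D.comm_bc.pow_pow (2 * j) (2 * k)).eq
        rw [← c2, ← mul_assoc, ← c1, mul_assoc, ← c3, ← mul_assoc]
    obtain ⟨i, j, k, rfl⟩ := key
    refine ⟨⟨i % 3, Nat.mod_lt _ (by omega)⟩, ⟨j % 3, Nat.mod_lt _ (by omega)⟩,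
      ⟨k % 3, Nat.mod_lt _ (by omega)⟩, ?_⟩
    simp only [pow_mod D.a3, pow_mod D.b3, pow_mod D.c3]
  · rintro ⟨i, j, k, rfl⟩
    exact D.A.mul_mem (D.A.mul_mem (D.A.pow_mem D.aA _) (D.A.pow_mem D.bA _))
      (D.A.pow_mem D.cA _)

theorem commute_z_of_mem_A {x : G} (hx : x ∈ D.A) : Commute x D.z := by
  obtain ⟨i, j, k, rfl⟩ := D.mem_A.1 hx
  exact ((D.az.pow_left _).mul_left (D.bz.pow_left _)).mul_left (D.cz.pow_left _)

theorem commute_of_mem_A {x y : G} (hx : x ∈ D.A) (ha : Commute y D.a) (hb : Commute y D.b)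
    (hc : Commute y D.c) : Commute y x := by
  obtain ⟨i, j, k, rfl⟩ := D.mem_A.1 hx
  exact ((ha.pow_right _).mul_right (hb.pow_right _)).mul_right (hc.pow_right _)

theorem A_comm {x y : G} (hx : x ∈ D.A) (hy : y ∈ D.A) : Commute x y := by
  refine D.commute_of_mem_A hy ?_ ?_ ?_
  · exact (D.commute_of_mem_A hx (Commute.refl _) D.comm_ab D.comm_ac).symm
  · exact (D.commute_of_mem_A hx D.comm_ab.symm (Commute.refl _) D.comm_bc).symm
  · exact (D.commute_of_mem_A hx D.comm_ac.symm D.comm_bc.symm (Commute.refl _)).symm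

theorem p_word (i j k : ℕ) : D.p (D.a ^ i * D.b ^ j * D.c ^ k) = sa m ^ i * sb m ^ j * sc m ^ k := by
  have h := D.cv
  rw [h.mul ((D.az.pow_left _).mul_left (D.bz.pow_left _)) (D.cz.pow_left _),
    h.mul (D.az.pow_left _) (D.bz.pow_left _), h.pow D.az, h.pow D.bz, h.pow D.cz, D.pa, D.pb,
    D.pc]

theorem A_cube {x : G} (hx : x ∈ D.A) : x ^ 3 = 1 := by
  obtain ⟨i, j, k, rfl⟩ := D.mem_A.1 hx
  rw [(((D.comm_ac.pow_pow i k)).mul_left (D.comm_bc.pow_pow j k)).mul_pow,
    (D.comm_ab.pow_pow i j).mul_pow, ← pow_mul, ← pow_mul, ← pow_mul, mul_comm (i : ℕ) 3,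
    mul_comm (j : ℕ) 3, mul_comm (k : ℕ) 3, pow_mul, pow_mul, pow_mul, D.a3, D.b3, D.c3, one_pow,
    one_pow, one_pow, one_mul, one_mul]

theorem word_injective : Function.Injective (fun w : Fin 3 × Fin 3 × Fin 3 =>
    D.a ^ (w.1 : ℕ) * D.b ^ (w.2.1 : ℕ) * D.c ^ (w.2.2 : ℕ)) := by
  intro w w' h
  have h1 := congrArg D.p h
  simp only [D.p_word] at h1
  have key : ∀ i j k : Fin 3, (sa m ^ (i : ℕ) * sb m ^ (j : ℕ) * sc m ^ (k : ℕ)) 0 =
      Fin.ofNat (m + 9) (i : ℕ) ∧ (sa m ^ (i : ℕ) * sb m ^ (j : ℕ) * sc m ^ (k : ℕ)) 3 =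
      Fin.ofNat (m + 9) ((j : ℕ) + 3) ∧
      (sa m ^ (i : ℕ) * sb m ^ (j : ℕ) * sc m ^ (k : ℕ)) 6 = Fin.ofNat (m + 9) ((k : ℕ) + 6) := by
    have := D.hm
    interval_cases m <;> decide
  obtain ⟨i, j, k⟩ := w
  obtain ⟨i', j', k'⟩ := w'
  obtain ⟨a1, a2, a3⟩ := key i j k
  obtain ⟨b1, b2, b3⟩ := key i' j' k'
  simp only at h1
  rw [h1] at a1 a2 a3
  have e1 := a1.symm.trans b1
  have e2 := a2.symm.trans b2
  have e3 := a3.symm.trans b3
  clear a1 a2 a3 b1 b2 b3 h1 h key
  have hm := D.hm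
  have cast_inj : ∀ s t : ℕ, s < 9 → t < 9 → Fin.ofNat (m + 9) s = Fin.ofNat (m + 9) t →
      s = t := by
    intro s t hs ht hst
    have := congrArg Fin.val hst
    simp only [Fin.val_ofNat] at this
    rw [Nat.mod_eq_of_lt (by omega), Nat.mod_eq_of_lt (by omega)] at this
    exact this
  have f1 := cast_inj _ _ (by omega) (by omega) e1
  have f2 := cast_inj _ _ (by omega) (by omega) e2
  have f3 := cast_inj _ _ (by omega) (by omega) e3
  have g1 : i = i' := Fin.ext f1
  have g2 : j = j' := Fin.ext (by omega)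
  have g3 : k = k' := Fin.ext (by omega)
  rw [g1, g2, g3]

theorem card_A : Nat.card D.A = 27 := by
  have h1 : Nat.card D.A = Nat.card (Fin 3 × Fin 3 × Fin 3) := by
    refine (Nat.card_congr (Equiv.ofBijective
      (fun w : Fin 3 × Fin 3 × Fin 3 => (⟨D.a ^ (w.1 : ℕ) * D.b ^ (w.2.1 : ℕ) *
        D.c ^ (w.2.2 : ℕ), D.mem_A.2 ⟨_, _, _, rfl⟩⟩ : D.A)) ⟨?_, ?_⟩)).symm
    · intro w w' h
      exact D.word_injective (congrArg Subtype.val h)
    · rintro ⟨x, hx⟩
      obtain ⟨i, j, k, rfl⟩ := D.mem_A.1 hx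
      exact ⟨(i, j, k), rfl⟩
  rw [h1]
  simp

/-- elements of the centraliser of `z` over the group generated by the three 3-cycles -/
theorem mem_A_or_of_p {x : G} (hx : Commute x D.z) {i j k : ℕ}
    (h : D.p x = sa m ^ i * sb m ^ j * sc m ^ k) : x ∈ D.A ∨ x * D.z ∈ D.A := by
  have h0 : D.a ^ i * D.b ^ j * D.c ^ k ∈ D.A :=
    D.A.mul_mem (D.A.mul_mem (D.A.pow_mem D.aA _) (D.A.pow_mem D.bA _)) (D.A.pow_mem D.cA _)
  rcases D.cv.eq_or hx (D.commute_z_of_mem_A h0) (by rw [h, D.p_word]) with h1 | h1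
  · left; rw [h1]; exact h0
  · right
    rw [h1, mul_assoc, D.zz, mul_one]; exact h0

/-- elements of order dividing `3` of `A` commuting with `u` are powers of `r` -/
theorem eq_pow_r_of_mem_A {x : G} (hx : x ∈ D.A) (hu : Commute x D.u) : ∃ i : Fin 3, x = D.r ^ (i : ℕ) := by
  obtain ⟨i, j, k, rfl⟩ := D.mem_A.1 hx
  have h1 : Commute (D.p (D.a ^ (i : ℕ) * D.b ^ (j : ℕ) * D.c ^ (k : ℕ))) (D.p D.u) := by
    change _ * _ = _ * _
    rw [← D.cv.mul (D.commute_z_of_mem_A hx) D.uz, hu.eq, D.cv.mul D.uz (D.commute_z_of_mem_A hx)]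
  rw [D.p_word, D.pu] at h1
  obtain ⟨h2, h3⟩ := commute_su_of D.hm i j k h1
  refine ⟨i, ?_⟩
  rw [← h2, h3, r, D.comm_ab.mul_pow]
  simp

end Data

end Cfsg.Agent.SporRec.TwoNine.Lifts
end

-- part: SporRec/TwoNine/Gen
section
/-!
# Generalities: the odd core of a subgroup, involutions with a unique involution in their centraliser
-/

set_option autoImplicit false

namespace Cfsg.Agent.SporRec.TwoNine.Gen

open Subgroup Cfsg
open Cfsg.Agent.Lib

variable {G : Type*} [Group G]

/-- the odd core of a subgroup -/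
def oc (N : Subgroup G) : Subgroup G := (pPrimeCore 2 N).map N.subtype

theorem oc_le (N : Subgroup G) : oc N ≤ N := by
  rintro _ ⟨x, -, rfl⟩
  exact x.2

theorem odd_card_oc [Finite G] (N : Subgroup G) : Odd (Nat.card (oc N)) := by
  have h1 : Nat.card (oc N) = Nat.card (pPrimeCore 2 N) :=
    (Nat.card_congr ((pPrimeCore 2 N).equivMapOfInjective N.subtype
      N.subtype_injective).toEquiv).symm
  rw [h1, ← Nat.coprime_two_right]
  exact Cores.pPrimeCore_coprime 2

theorem le_oc {N M : Subgroup G} (hMN : M ≤ N) (hn : ∀ g ∈ N, ∀ m ∈ M, g * m * g⁻¹ ∈ M)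
    (ho : Odd (Nat.card M)) : M ≤ oc N := by
  have h1 : (M.subgroupOf N).Normal := by
    refine ⟨fun m hm g => ?_⟩
    rw [mem_subgroupOf] at hm ⊢
    exact hn g g.2 m hm
  have h2 : (Nat.card (M.subgroupOf N)).Coprime 2 := by
    rw [Nat.card_congr (subgroupOfEquivOfLe hMN).toEquiv, Nat.coprime_two_right]
    exact ho
  intro m hm
  exact ⟨⟨m, hMN hm⟩, Cores.le_pPrimeCore h1 h2 (mem_subgroupOf.2 hm), rfl⟩

/-- an element normalizing `N` normalizes its odd core -/
theorem oc_conj {N : Subgroup G} {g : G} (hg : g ∈ normalizer (N : Set G)) {k : G}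
    (hk : k ∈ oc N) : g * k * g⁻¹ ∈ oc N := by
  obtain ⟨y, hy, rfl⟩ := hk
  let e : N ≃* N := N.normalizerMonoidHom ⟨g, hg⟩
  have h1 := Cores.map_equiv_pPrimeCore e 2
  have h2 : e y ∈ pPrimeCore 2 N := by
    rw [← h1]
    exact mem_map_of_mem _ hy
  exact ⟨e y, h2, rfl⟩

theorem mem_normalizer_of_conj [Finite G] {N : Subgroup G} {g : G}
    (hg : ∀ x ∈ N, g * x * g⁻¹ ∈ N) : g ∈ normalizer (N : Set G) := by
  have hinj : Function.Injective (fun x : N => (⟨g * x * g⁻¹, hg x x.2⟩ : N)) := by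
    intro x y hxy
    have h1 : g * (x : G) * g⁻¹ = g * (y : G) * g⁻¹ := congrArg Subtype.val hxy
    exact Subtype.ext (mul_left_cancel (mul_right_cancel h1))
  have hsurj := Finite.surjective_of_injective hinj
  rw [mem_normalizer_iff]
  intro x
  constructor
  · exact hg x
  · intro hx
    obtain ⟨y, hy⟩ := hsurj ⟨_, hx⟩
    have h1 : g * (y : G) * g⁻¹ = g * x * g⁻¹ := congrArg Subtype.val hy
    have h2 : (y : G) = x := mul_left_cancel (mul_right_cancel h1)
    rw [← h2]
    exact y.2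

theorem orderOf_odd_of_mem {N : Subgroup G} (ho : Odd (Nat.card N)) {x : G} (hx : x ∈ N) :
    Odd (orderOf x) := by
  have h1 : orderOf (⟨x, hx⟩ : N) ∣ Nat.card N := orderOf_dvd_natCard _
  have h2 : orderOf (⟨x, hx⟩ : N) = orderOf x := orderOf_mk x hx
  rw [← h2]
  exact ho.of_dvd_nat h1

/-- an element of odd order of square one is trivial -/
theorem eq_one_of_odd {x : G} (ho : Odd (orderOf x)) (h : x * x = 1) : x = 1 := by
  have h1 : orderOf x ∣ 2 := orderOf_dvd_of_pow_eq_one (by rw [pow_two]; exact h)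
  rcases (Nat.dvd_prime Nat.prime_two).1 h1 with h2 | h2
  · exact orderOf_eq_one_iff.1 h2
  · rw [h2] at ho
    exact absurd ho (by decide)

theorem exists_sqrt {c : G} (hc : Odd (orderOf c)) : ∃ k : ℕ, c ^ k * c ^ k = c := by
  obtain ⟨k, hk⟩ := hc
  refine ⟨k + 1, ?_⟩
  have h1 : c ^ (2 * k + 1) = 1 := by rw [← hk]; exact pow_orderOf_eq_one c
  calc c ^ (k + 1) * c ^ (k + 1) = c ^ (2 * k + 1) * c := by
        rw [← pow_add, ← pow_succ]; congr 1; ring
    _ = c := by rw [h1, one_mul]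

/-- If the involution `z` maps the coset `K g` to itself, it fixes an element of it. -/
theorem exists_fixed {K : Subgroup G} (ho : Odd (Nat.card K)) {z g : G} (hzz : z * z = 1)
    (hg : z * g * z⁻¹ * g⁻¹ ∈ K) : ∃ k ∈ K, Commute (k * g) z := by
  have hzi : z⁻¹ = z := inv_eq_of_mul_eq_one_left hzz
  set w := z * g * z⁻¹ * g⁻¹ with hw
  have hzw : z * w * z⁻¹ = w⁻¹ := by
    rw [hw, mul_inv_rev, mul_inv_rev, mul_inv_rev, inv_inv, inv_inv]
    calc z * (z * g * z⁻¹ * g⁻¹) * z⁻¹ = (z * z) * g * z⁻¹ * g⁻¹ * z⁻¹ := by group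
      _ = g * (z * (g⁻¹ * z⁻¹)) := by rw [hzz, hzi]; group
  obtain ⟨j, hj⟩ := exists_sqrt (orderOf_odd_of_mem ho hg)
  refine ⟨w ^ j, K.pow_mem hg j, ?_⟩
  have h1 : z * w ^ j * z⁻¹ = (w ^ j)⁻¹ := by
    rw [← conj_pow, hzw, inv_pow]
  have h2 : z * g * z⁻¹ = w * g := by rw [hw]; group
  have h3 : z * (w ^ j * g) * z⁻¹ = w ^ j * g := by
    calc z * (w ^ j * g) * z⁻¹ = (z * w ^ j * z⁻¹) * (z * g * z⁻¹) := by group
      _ = (w ^ j)⁻¹ * (w * g) := by rw [h1, h2]
      _ = (w ^ j)⁻¹ * (w ^ j * w ^ j) * g := by rw [hj]; group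
      _ = w ^ j * g := by group
  exact (mul_inv_eq_iff_eq_mul.1 h3).symm

/-- Let `z` be an involution which is the only involution commuting with it in the finite group `M`. Then
all involutions are conjugate to `z`, and (Glauberman, Brauer–Suzuki) `z` is central modulo the odd
core. -/
theorem unique_involution {M : Type*} [Group M] [Finite M] {z : M} (hzz : z * z = 1) (hz1 : z ≠ 1)
    (hu : ∀ t : M, t * t = 1 → t ≠ 1 → Commute t z → t = z) :
    (∀ t : M, t * t = 1 → t ≠ 1 → ∃ m : M, m * t * m⁻¹ = z) ∧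
      ∀ g : M, z * g * z⁻¹ * g⁻¹ ∈ pPrimeCore 2 M := by
  have h2 : Fact (Nat.Prime 2) := ⟨Nat.prime_two⟩
  have hoz : orderOf z = 2 := orderOf_eq_prime (by rw [pow_two]; exact hzz) hz1
  have hpz : IsPGroup 2 (zpowers z) := by
    refine IsPGroup.of_card (n := 1) ?_
    rw [Nat.card_zpowers, hoz, pow_one]
  obtain ⟨P, hP⟩ := hpz.exists_le_sylow
  have hzP : z ∈ P := hP (mem_zpowers z)
  have hne : Nontrivial P := ⟨⟨⟨z, hzP⟩, 1, fun h => hz1 (congrArg Subtype.val h)⟩⟩
  have hcne : Nontrivial (center P) := IsPGroup.center_nontrivial P.isPGroup'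
  -- an involution in the centre of `P`
  have hzc : ∀ s ∈ P, Commute s z := by
    have hdvd : 2 ∣ Nat.card (center P) := by
      obtain ⟨k, hk⟩ := IsPGroup.iff_card.1 (P.isPGroup'.to_subgroup (center P))
      have hk0 : k ≠ 0 := by
        rintro rfl
        rw [pow_zero] at hk
        exact absurd hk (ne_of_gt (Finite.one_lt_card))
      rw [hk]; exact dvd_pow_self 2 hk0
    obtain ⟨t, ht⟩ := exists_prime_orderOf_dvd_card' 2 hdvd
    have ht1 : ((t : P) : M) ≠ 1 := by
      intro h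
      have : t = 1 := Subtype.ext (Subtype.ext h)
      rw [this, orderOf_one] at ht
      exact absurd ht (by decide)
    have htt : ((t : P) : M) * ((t : P) : M) = 1 := by
      have h3 : t ^ 2 = 1 := by
        have := pow_orderOf_eq_one t
        rwa [ht] at this
      rw [pow_two] at h3
      exact congrArg (fun x : center P => ((x : P) : M)) h3
    have hcomm : ∀ s ∈ P, Commute s ((t : P) : M) := by
      intro s hs
      exact congrArg Subtype.val (mem_center_iff.1 t.2 ⟨s, hs⟩)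
    have h4 := hu _ htt ht1 (hcomm z hzP).symm
    rw [h4] at hcomm
    exact hcomm
  have hP1 : ∀ s ∈ P, s * s = 1 → s ≠ 1 → s = z := fun s hs h3 h4 => hu s h3 h4 (hzc s hs)
  have hconj : ∀ t : M, t * t = 1 → t ≠ 1 → ∃ m : M, m * t * m⁻¹ = z := by
    intro t htt ht1
    have hot : orderOf t = 2 := orderOf_eq_prime (by rw [pow_two]; exact htt) ht1
    have hpt : IsPGroup 2 (zpowers t) := by
      refine IsPGroup.of_card (n := 1) ?_
      rw [Nat.card_zpowers, hot, pow_one]
    obtain ⟨Q, hQ⟩ := hpt.exists_le_sylow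
    obtain ⟨m, hm⟩ := MulAction.exists_smul_eq M Q P
    refine ⟨m, hP1 _ ?_ ?_ ?_⟩
    · rw [← hm]
      change m * t * m⁻¹ ∈ ((m • Q : Sylow 2 M) : Subgroup M)
      rw [Sylow.coe_subgroup_smul, Subgroup.mem_pointwise_smul_iff_inv_smul_mem]
      have : (MulAut.conj m)⁻¹ • (m * t * m⁻¹) = t := by
        rw [← map_inv, MulAut.smul_def, MulAut.conj_apply]; group
      rw [this]
      exact hQ (mem_zpowers t)
    · calc m * t * m⁻¹ * (m * t * m⁻¹) = m * (t * t) * m⁻¹ := by group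
        _ = 1 := by rw [htt]; group
    · intro h
      apply ht1
      calc t = m⁻¹ * (m * t * m⁻¹) * m := by group
        _ = 1 := by rw [h]; group
  refine ⟨hconj, ?_⟩
  obtain ⟨N, hN, hodd, hcomm⟩ := Cfsg.Agent.S0215.result P z hoz hzP (by
    intro g hg
    refine hP1 _ hg ?_ ?_
    · calc g * z * g⁻¹ * (g * z * g⁻¹) = g * (z * z) * g⁻¹ := by group
        _ = 1 := by rw [hzz]; group
    · intro h
      apply hz1
      calc z = g⁻¹ * (g * z * g⁻¹) * g := by group
        _ = 1 := by rw [h]; group)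
  intro g
  exact Cores.le_pPrimeCore hN (Nat.coprime_two_right.2 hodd) (hcomm g)

/-- The same for a subgroup. -/
theorem unique_involution_sub [Finite G] {N : Subgroup G} {z : G} (hzN : z ∈ N) (hzz : z * z = 1)
    (hz1 : z ≠ 1) (hu : ∀ t ∈ N, t * t = 1 → t ≠ 1 → Commute t z → t = z) :
    (∀ t ∈ N, t * t = 1 → t ≠ 1 → ∃ m ∈ N, m * t * m⁻¹ = z) ∧
      ∀ g ∈ N, z * g * z⁻¹ * g⁻¹ ∈ oc N := by
  obtain ⟨h1, h2⟩ := unique_involution (M := N) (z := ⟨z, hzN⟩) (Subtype.ext hzz)
    (fun h => hz1 (congrArg Subtype.val h)) (by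
      intro t ht ht1 htz
      refine Subtype.ext (hu t t.2 (congrArg Subtype.val ht) (fun h => ht1 (Subtype.ext h)) ?_)
      exact congrArg Subtype.val htz)
  refine ⟨?_, ?_⟩
  · intro t ht htt ht1
    obtain ⟨m, hm⟩ := h1 ⟨t, ht⟩ (Subtype.ext htt) (fun h => ht1 (congrArg Subtype.val h))
    exact ⟨m, m.2, congrArg Subtype.val hm⟩
  · intro g hg
    exact ⟨_, h2 ⟨g, hg⟩, rfl⟩

end Cfsg.Agent.SporRec.TwoNine.Gen
end

-- part: SporRec/TwoNine/Vx
section
/-!
# An element centralising `r` and permuting the three involutions of the four-group cyclically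
-/

set_option autoImplicit false

namespace Cfsg.Agent.SporRec.TwoNine.Vx

open Equiv Equiv.Perm Subgroup
open Cfsg.Agent.SporRec.TwoNine.Cv Cfsg.Agent.SporRec.TwoNine.Perms
  Cfsg.Agent.SporRec.TwoNine.PermFacts Cfsg.Agent.SporRec.TwoNine.PermFacts2
  Cfsg.Agent.SporRec.TwoNine.PermFacts3 Cfsg.Agent.SporRec.TwoNine.Basic
  Cfsg.Agent.SporRec.TwoNine.Lifts Cfsg.Agent.SporRec.TwoNine.Lifts.Data

variable {G : Type*} [Group G] {m : ℕ} (D : Data G m)

/-- the centraliser of `z`, `u` and `r` -/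
theorem commute_zur {y : G} (hz : Commute y D.z) (hu : Commute y D.u) (hr : Commute y D.r) :
    ∃ i < 3, ∃ j < 2, ∃ k < 2, y = D.r ^ i * D.u ^ j * D.z ^ k := by
  have h := D.cv
  have hm := D.hm
  have e1 : Commute (D.p y) (su m) := by
    rw [← D.pu]
    change _ * _ = _ * _
    rw [← h.mul hz D.uz, hu.eq, h.mul D.uz hz]
  have e2 : Commute (D.p y) (sa m * sb m) := by
    rw [← D.pr]
    change _ * _ = _ * _
    rw [← h.mul hz D.rz, hr.eq, h.mul D.rz hz]
  obtain ⟨i, hi, j, hj, e3 | ⟨hm1, e3⟩⟩ := commute_su_sab hm (h.sgn hz) e1 e2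
  · have hc : Commute (D.r ^ i * D.u ^ j) D.z := (D.rz.pow_left _).mul_left (D.uz.pow_left _)
    have e4 : D.p (D.r ^ i * D.u ^ j) = D.p y := by
      rw [e3, h.mul (D.rz.pow_left _) (D.uz.pow_left _), h.pow D.rz, h.pow D.uz, D.pr, D.pu]
    rcases h.eq_or hz hc e4.symm with e5 | e5
    · exact ⟨i, hi, j, hj, 0, by omega, by rw [e5, pow_zero, mul_one]⟩
    · exact ⟨i, hi, j, hj, 1, by omega, by rw [e5, pow_one]⟩
  · exfalso
    set w := (D.r ^ i * D.u ^ j)⁻¹ * y with hw
    have hc : Commute (D.r ^ i * D.u ^ j) D.z := (D.rz.pow_left _).mul_left (D.uz.pow_left _)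
    have hwz : Commute w D.z := hc.inv_left.mul_left hz
    have hwu : Commute w D.u := ((D.ru.pow_left _).mul_left ((Commute.refl _).pow_left _)).inv_left.mul_left hu
    have hwp : D.p w = swap 6 7 * swap 8 (Fin.last _) := by
      rw [hw, h.mul hc.inv_left hz, h.inv hc, h.mul (D.rz.pow_left _) (D.uz.pow_left _),
        h.pow D.rz, h.pow D.uz, D.pr, D.pu, e3, inv_mul_cancel_left]
    have hww : w * w = D.z := h.two hwz (by subst hm1; decide) hwp
    have huw : D.u * w * (D.u * w) = 1 := by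
      refine quad h (a := 0) (b := 3) (c := 1) (d := 4) (e := 2) (f := 5) (k := 8)
        (l := Fin.last _) (D.uz.mul_left hwz) (by subst hm1; decide) ?_
      rw [h.mul D.uz hwz, D.pu, hwp]
      subst hm1; decide
    have h2 : D.u * w * (D.u * w) = D.u * D.u * (w * w) := by
      calc D.u * w * (D.u * w) = D.u * (w * D.u) * w := by group
        _ = D.u * (D.u * w) * w := by rw [hwu.eq]
        _ = _ := by group
    rw [h2, D.uu, hww, one_mul] at huw
    exact D.z_ne_one huw

/-- elements of `C(⟨z, u⟩)` commuting with `r` and of order a power of three are powers of `r` -/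
theorem eq_pow_r {y : G} (hz : Commute y D.z) (hu : Commute y D.u) (hr : Commute y D.r)
    (ho : Odd (orderOf y)) : ∃ i < 3, y = D.r ^ i := by
  obtain ⟨i, hi, j, hj, k, hk, e⟩ := commute_zur D hz hu hr
  refine ⟨i, hi, ?_⟩
  have hv : D.u ^ j * D.z ^ k = (D.r ^ i)⁻¹ * y := by rw [e]; group
  have hvv : D.u ^ j * D.z ^ k * (D.u ^ j * D.z ^ k) = 1 := by
    calc D.u ^ j * D.z ^ k * (D.u ^ j * D.z ^ k)
        = D.u ^ j * (D.z ^ k * D.u ^ j) * D.z ^ k := by group
      _ = D.u ^ j * (D.u ^ j * D.z ^ k) * D.z ^ k := by rw [(D.uz.pow_pow j k).eq]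
      _ = (D.u * D.u) ^ j * (D.z * D.z) ^ k := by
        rw [(Commute.refl D.u).mul_pow, (Commute.refl D.z).mul_pow]; group
      _ = 1 := by rw [D.uu, D.zz, one_pow, one_pow, one_mul]
  have h1 : D.u ^ j * D.z ^ k = 1 := by
    refine Gen.eq_one_of_odd ?_ hvv
    rw [hv]
    have hc : Commute ((D.r ^ i)⁻¹) y := (hr.symm.pow_left i).inv_left
    have h3 : Odd (orderOf ((D.r ^ i)⁻¹)) := by
      refine Odd.of_dvd_nat (n := 3) (by decide) ?_
      refine orderOf_dvd_of_pow_eq_one ?_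
      rw [inv_pow, ← pow_mul, mul_comm, pow_mul, D.r3, one_pow, inv_one]
    refine Odd.of_dvd_nat (h3.mul ho) ?_
    exact hc.orderOf_mul_dvd_mul_orderOf
  rw [e, mul_assoc, h1, mul_one]

/-- the centraliser of `⟨z, u⟩` -/
def Cd : Subgroup G := centralizer {D.z, D.u}

theorem mem_Cd {y : G} : y ∈ Cd D ↔ Commute y D.z ∧ Commute y D.u := by
  rw [Cd, mem_centralizer_iff]
  constructor
  · intro h
    exact ⟨(h D.z (by simp)).symm, (h D.u (by simp)).symm⟩
  · rintro ⟨h1, h2⟩ t (rfl | rfl)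
    · exact h1.eq.symm
    · exact h2.eq.symm

theorem not_nine_dvd [Finite G] : ¬ 9 ∣ Nat.card (Cd D) := by
  have hf3 : Fact (Nat.Prime 3) := ⟨by norm_num⟩
  intro h9
  have hr : D.r ∈ Cd D := (mem_Cd D).2 ⟨D.rz, D.ru⟩
  set r' : Cd D := ⟨D.r, hr⟩ with hr'
  have hor : orderOf D.r = 3 := orderOf_eq_prime D.r3 D.r_ne_one
  have hor' : orderOf r' = 3 := by rw [hr', orderOf_mk]; exact hor
  have hcz : Nat.card (zpowers r') = 3 ^ 1 := by rw [Nat.card_zpowers, hor', pow_one]
  obtain ⟨K, hK, hrK⟩ := Sylow.exists_subgroup_card_pow_succ (p := 3) (n := 1)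
    (by norm_num; exact h9) hcz
  have hcomm := IsPGroup.isMulCommutative_of_card_eq_prime_sq (p := 3) (G := K) hK
  have key : K ≤ zpowers r' := by
    intro t ht
    have hrk : r' ∈ K := hrK (mem_zpowers r')
    have h1 : (⟨t, ht⟩ : K) * ⟨r', hrk⟩ = ⟨r', hrk⟩ * ⟨t, ht⟩ := hcomm.is_comm.comm _ _
    have h2 : (t : G) * D.r = D.r * (t : G) := congrArg (fun x : K => ((x : Cd D) : G)) h1
    have h3 : orderOf (⟨t, ht⟩ : K) ∣ 9 := by
      have := orderOf_dvd_natCard (⟨t, ht⟩ : K)
      rw [hK] at this; exact this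
    have h4 : orderOf (t : G) ∣ 9 := by
      rw [orderOf_mk] at h3
      rwa [orderOf_coe]
    obtain ⟨i, -, hi⟩ := eq_pow_r D ((mem_Cd D).1 t.2).1 ((mem_Cd D).1 t.2).2 h2
      (Odd.of_dvd_nat (by decide) h4)
    have h5 : t = r' ^ i := Subtype.ext hi
    rw [h5]
    exact pow_mem (mem_zpowers _) i
  have h6 := Subgroup.card_le_of_le key
  rw [hK, hcz] at h6
  norm_num at h6

/-- two elements of order three of a subgroup whose order is not divisible by nine -/
theorem conj_of_not_nine [Finite G] {N : Subgroup G} (h9 : ¬ 9 ∣ Nat.card N) {s t : G} (hs : s ∈ N)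
    (ht : t ∈ N) (hs3 : orderOf s = 3) (ht3 : orderOf t = 3) :
    ∃ n ∈ N, n * s * n⁻¹ = t ∨ n * s * n⁻¹ = t⁻¹ := by
  have hf3 : Fact (Nat.Prime 3) := ⟨by norm_num⟩
  have key : ∀ w : G, w ∈ N → orderOf w = 3 → ∃ P : Sylow 3 N, ∀ y : N, y ∈ P ↔
      (y : G) ∈ zpowers w := by
    intro w hw hw3
    have hd : 3 ∣ Nat.card N := by
      have := orderOf_dvd_natCard (⟨w, hw⟩ : N)
      rwa [orderOf_mk, hw3] at this
    have hf : (Nat.card N).factorization 3 = 1 := by
      have h1 : 1 ≤ (Nat.card N).factorization 3 :=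
        (Nat.Prime.dvd_iff_one_le_factorization (by norm_num) Nat.card_pos.ne').1 hd
      have h2 : ¬ 2 ≤ (Nat.card N).factorization 3 := by
        intro h3
        exact h9 (by
          have := (Nat.Prime.pow_dvd_iff_le_factorization (p := 3) (by norm_num)
            (Nat.card_pos (α := N)).ne').2 h3
          simpa using this)
      omega
    have hc : Nat.card (zpowers (⟨w, hw⟩ : N)) = 3 ^ (Nat.card N).factorization 3 := by
      rw [hf, Nat.card_zpowers, orderOf_mk, hw3, pow_one]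
    refine ⟨Sylow.ofCard _ hc, ?_⟩
    intro y
    change y ∈ zpowers (⟨w, hw⟩ : N) ↔ _
    rw [mem_zpowers_iff, mem_zpowers_iff]
    constructor
    · rintro ⟨k, rfl⟩; exact ⟨k, by simp⟩
    · rintro ⟨k, hk⟩; exact ⟨k, Subtype.ext (by simpa using hk)⟩
  obtain ⟨P, hP⟩ := key s hs hs3
  obtain ⟨Q, hQ⟩ := key t ht ht3
  obtain ⟨n, hn⟩ := MulAction.exists_smul_eq N P Q
  have h1 : n * (⟨s, hs⟩ : N) * n⁻¹ ∈ Q := by
    rw [← hn]
    change n * (⟨s, hs⟩ : N) * n⁻¹ ∈ ((n • P : Sylow 3 N) : Subgroup N)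
    rw [Sylow.coe_subgroup_smul, Subgroup.mem_pointwise_smul_iff_inv_smul_mem]
    have : (MulAut.conj n)⁻¹ • (n * (⟨s, hs⟩ : N) * n⁻¹) = ⟨s, hs⟩ := by
      rw [← map_inv, MulAut.smul_def, MulAut.conj_apply]; group
    rw [this]
    exact (hP _).2 (mem_zpowers s)
  have h2 := (hQ _).1 h1
  refine ⟨n, n.2, ?_⟩
  have h3 : (n : G) * s * (n : G)⁻¹ ∈ zpowers t := h2
  obtain ⟨k, hk⟩ := (mem_powers_iff_mem_zpowers (x := t)).2 h3
  have ht' : t ^ 3 = 1 := by rw [← ht3]; exact pow_orderOf_eq_one t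
  have hk' : t ^ (k % 3) = (n : G) * s * (n : G)⁻¹ := by rw [pow_mod ht']; exact hk
  have hk3 : k % 3 < 3 := Nat.mod_lt _ (by omega)
  interval_cases (k % 3)
  · exfalso
    rw [pow_zero] at hk'
    have h4 : s = 1 := by
      calc s = (n : G)⁻¹ * ((n : G) * s * (n : G)⁻¹) * n := by group
        _ = 1 := by rw [← hk']; group
    rw [h4, orderOf_one] at hs3
    exact absurd hs3 (by decide)
  · left; rw [← hk', pow_one]
  · right
    rw [← hk', eq_inv_iff_mul_eq_one, ← pow_succ, ht']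

/-- the element `x` -/
theorem exists_x [Finite G] (hu : ∃ y, y * D.z * y⁻¹ = D.u) :
    ∃ x, x * D.z * x⁻¹ = D.u ∧ x * D.u * x⁻¹ = D.u * D.z ∧ Commute x D.r ∧
      ∃ k : ℕ, x ^ 3 ^ k = 1 := by
  obtain ⟨y, hy⟩ := hu
  have hor : orderOf D.r = 3 := by
    have hf3 : Fact (Nat.Prime 3) := ⟨by norm_num⟩
    exact orderOf_eq_prime D.r3 D.r_ne_one
  -- an element of the centraliser of `u` mapping `z` to `z u`
  obtain ⟨g1, hg1, e1⟩ : ∃ g1, Commute g1 D.u ∧ g1 * D.z * g1⁻¹ = D.z * D.u := by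
    have h := exists_conj_mul_z D.hm (D.conj y).cv (t := D.z) (by
      change Commute D.z (y * D.z * y⁻¹)
      rw [hy]; exact D.uz.symm) D.zz D.z_ne_one (by
      change D.z ≠ y * D.z * y⁻¹
      rw [hy]; exact D.u_ne_z.symm)
    obtain ⟨g1, h1, h2⟩ := h
    change Commute g1 (y * D.z * y⁻¹) at h1
    change g1 * D.z * g1⁻¹ = D.z * (y * D.z * y⁻¹) at h2
    rw [hy] at h1 h2
    exact ⟨g1, h1, h2⟩
  -- the product with `g`
  set y0 := D.g * g1 with hy0
  have a1 : y0 * D.z * y0⁻¹ = D.u := by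
    calc y0 * D.z * y0⁻¹ = D.g * (g1 * D.z * g1⁻¹) * D.g⁻¹ := by rw [hy0]; group
      _ = (D.g * D.z * D.g⁻¹) * (D.g * D.u * D.g⁻¹) := by rw [e1]; group
      _ = D.z * (D.u * D.z) := by rw [D.g_u, D.gz.eq, mul_inv_cancel_right]
      _ = D.u := by rw [D.uz.eq, ← mul_assoc, D.zz, one_mul]
  have a2 : y0 * D.u * y0⁻¹ = D.u * D.z := by
    calc y0 * D.u * y0⁻¹ = D.g * (g1 * D.u * g1⁻¹) * D.g⁻¹ := by rw [hy0]; group
      _ = D.u * D.z := by rw [hg1.eq, mul_inv_cancel_right, D.g_u]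
  have a3 : y0 * (D.u * D.z) * y0⁻¹ = D.z := by
    calc y0 * (D.u * D.z) * y0⁻¹ = (y0 * D.u * y0⁻¹) * (y0 * D.z * y0⁻¹) := by group
      _ = D.u * D.z * D.u := by rw [a1, a2]
      _ = D.z := by rw [D.uz.eq, mul_assoc, D.uu, mul_one]
  clear_value y0
  -- `y0` normalises the centraliser
  have hn : y0 * D.r * y0⁻¹ ∈ Cd D := by
    rw [mem_Cd]
    constructor
    · have h1 : Commute D.r (D.u * D.z) := D.ru.mul_right D.rz
      have h2 : Commute (y0 * D.r * y0⁻¹) (y0 * (D.u * D.z) * y0⁻¹) := SemiconjBy.conj_iff.2 h1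
      rwa [a3] at h2
    · have h2 : Commute (y0 * D.r * y0⁻¹) (y0 * D.z * y0⁻¹) := SemiconjBy.conj_iff.2 D.rz
      rwa [a1] at h2
  have ho' : orderOf (y0 * D.r * y0⁻¹) = 3 := by
    rw [← hor]
    exact (SemiconjBy.orderOf_eq y0 (by
      change y0 * D.r = y0 * D.r * y0⁻¹ * y0
      rw [inv_mul_cancel_right])).symm
  obtain ⟨n, hnD, hn1⟩ := conj_of_not_nine (not_nine_dvd D) hn ((mem_Cd D).2 ⟨D.rz, D.ru⟩)
    ho' hor
  obtain ⟨nz, nu⟩ := (mem_Cd D).1 hnD
  set y1 := n * y0 with hy1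
  have b1 : y1 * D.z * y1⁻¹ = D.u := by
    calc y1 * D.z * y1⁻¹ = n * (y0 * D.z * y0⁻¹) * n⁻¹ := by rw [hy1]; group
      _ = D.u := by rw [a1, nu.eq, mul_inv_cancel_right]
  have b2 : y1 * D.u * y1⁻¹ = D.u * D.z := by
    calc y1 * D.u * y1⁻¹ = n * (y0 * D.u * y0⁻¹) * n⁻¹ := by rw [hy1]; group
      _ = D.u * D.z := by rw [a2, (nu.mul_right nz).eq, mul_inv_cancel_right]
  have b3 : y1 * (D.u * D.z) * y1⁻¹ = D.z := by
    calc y1 * (D.u * D.z) * y1⁻¹ = n * (y0 * (D.u * D.z) * y0⁻¹) * n⁻¹ := by rw [hy1]; group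
      _ = D.z := by rw [a3, nz.eq, mul_inv_cancel_right]
  have b4 : y1 * D.r * y1⁻¹ = D.r ∨ y1 * D.r * y1⁻¹ = D.r⁻¹ := by
    have : y1 * D.r * y1⁻¹ = n * (y0 * D.r * y0⁻¹) * n⁻¹ := by rw [hy1]; group
    rw [this]; exact hn1
  clear_value y1
  have b5 : y1 ^ 2 * D.r * (y1 ^ 2)⁻¹ = D.r := by
    have e : y1 ^ 2 * D.r * (y1 ^ 2)⁻¹ = y1 * (y1 * D.r * y1⁻¹) * y1⁻¹ := by
      rw [pow_two]; group
    rcases b4 with h1 | h1
    · rw [e, h1, h1]
    · have h2 : y1 * D.r⁻¹ * y1⁻¹ = (y1 * D.r * y1⁻¹)⁻¹ := by group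
      rw [e, h1, h2, h1, inv_inv]
  have b5' : Commute (y1 ^ 2) D.r := mul_inv_eq_iff_eq_mul.1 b5
  -- the fourth power
  set y2 := y1 ^ 4 with hy2
  have c1 : y2 * D.z * y2⁻¹ = D.u := by
    have e : y2 * D.z * y2⁻¹ = y1 * (y1 * (y1 * (y1 * D.z * y1⁻¹) * y1⁻¹) * y1⁻¹) * y1⁻¹ := by
      rw [hy2]; simp only [pow_succ, pow_zero, one_mul, mul_inv_rev, mul_assoc]
    rw [e, b1, b2, b3, b1]
  have c2 : y2 * D.u * y2⁻¹ = D.u * D.z := by
    have e : y2 * D.u * y2⁻¹ = y1 * (y1 * (y1 * (y1 * D.u * y1⁻¹) * y1⁻¹) * y1⁻¹) * y1⁻¹ := by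
      rw [hy2]; simp only [pow_succ, pow_zero, one_mul, mul_inv_rev, mul_assoc]
    rw [e, b2, b3, b1, b2]
  have c3 : y2 * (D.u * D.z) * y2⁻¹ = D.z := by
    have e : y2 * (D.u * D.z) * y2⁻¹ =
        y1 * (y1 * (y1 * (y1 * (D.u * D.z) * y1⁻¹) * y1⁻¹) * y1⁻¹) * y1⁻¹ := by
      rw [hy2]; simp only [pow_succ, pow_zero, one_mul, mul_inv_rev, mul_assoc]
    rw [e, b3, b1, b2, b3]
  have c4 : Commute y2 D.r := by
    have : y2 = (y1 ^ 2) ^ 2 := by rw [hy2, ← pow_mul]
    rw [this]; exact b5'.pow_left 2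
  clear_value y2
  have d1 : Commute (y2 ^ 3) D.z := by
    refine mul_inv_eq_iff_eq_mul.1 ?_
    have e : y2 ^ 3 * D.z * (y2 ^ 3)⁻¹ = y2 * (y2 * (y2 * D.z * y2⁻¹) * y2⁻¹) * y2⁻¹ := by
      simp only [pow_succ, pow_zero, one_mul, mul_inv_rev, mul_assoc]
    rw [e, c1, c2, c3]
  have d2 : Commute (y2 ^ 3) D.u := by
    refine mul_inv_eq_iff_eq_mul.1 ?_
    have e : y2 ^ 3 * D.u * (y2 ^ 3)⁻¹ = y2 * (y2 * (y2 * D.u * y2⁻¹) * y2⁻¹) * y2⁻¹ := by
      simp only [pow_succ, pow_zero, one_mul, mul_inv_rev, mul_assoc]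
    rw [e, c2, c3, c1]
  -- the `3`-part
  obtain ⟨k, s, hs3, hks⟩ : ∃ k s : ℕ, ¬ 3 ∣ s ∧ orderOf y2 = 3 ^ k * s :=
    Nat.exists_eq_pow_mul_and_not_dvd (orderOf_pos y2).ne' 3 (by decide)
  have hss : (s * s) % 3 = 1 := by
    have h1 : s % 3 = 1 ∨ s % 3 = 2 := by omega
    rcases h1 with h1 | h1 <;> simp [Nat.mul_mod, h1]
  obtain ⟨f, hf⟩ : ∃ f, s * s = 3 * f + 1 := ⟨s * s / 3, by omega⟩
  have hpow : y2 ^ (s * s) = (y2 ^ 3) ^ f * y2 := by rw [hf, pow_succ, pow_mul]
  refine ⟨y2 ^ (s * s), ?_, ?_, c4.pow_left _, k, ?_⟩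
  · rw [hpow]
    calc (y2 ^ 3) ^ f * y2 * D.z * ((y2 ^ 3) ^ f * y2)⁻¹
        = (y2 ^ 3) ^ f * (y2 * D.z * y2⁻¹) * ((y2 ^ 3) ^ f)⁻¹ := by group
      _ = D.u := by rw [c1, (d2.pow_left f).eq, mul_inv_cancel_right]
  · rw [hpow]
    calc (y2 ^ 3) ^ f * y2 * D.u * ((y2 ^ 3) ^ f * y2)⁻¹
        = (y2 ^ 3) ^ f * (y2 * D.u * y2⁻¹) * ((y2 ^ 3) ^ f)⁻¹ := by group
      _ = D.u * D.z := by
        rw [c2, ((d2.pow_left f).mul_right (d1.pow_left f)).eq, mul_inv_cancel_right]
  · rw [← pow_mul]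
    have : s * s * 3 ^ k = orderOf y2 * s := by rw [hks]; ring
    rw [this, pow_mul, pow_orderOf_eq_one, one_pow]

/-- the conjugate of `x` under `g` -/
theorem g_x {x : G} (x1 : x * D.z * x⁻¹ = D.u) (x2 : x * D.u * x⁻¹ = D.u * D.z)
    (xr : Commute x D.r) : ∃ i < 3, ∃ j < 2, ∃ k < 2,
      D.g * x * D.g⁻¹ = D.r ^ i * D.u ^ j * D.z ^ k * x⁻¹ := by
  have x3 : x * (D.u * D.z) * x⁻¹ = D.z := by
    calc x * (D.u * D.z) * x⁻¹ = (x * D.u * x⁻¹) * (x * D.z * x⁻¹) := by group
      _ = D.z := by rw [x1, x2, D.uz.eq, mul_assoc, D.uu, mul_one]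
  have g2 : D.g⁻¹ * D.u * D.g = D.u * D.z := by
    have h1 : D.g * (D.u * D.z) * D.g⁻¹ = D.u := by
      calc D.g * (D.u * D.z) * D.g⁻¹ = (D.g * D.u * D.g⁻¹) * (D.g * D.z * D.g⁻¹) := by group
        _ = D.u := by rw [D.g_u, D.gz.eq, mul_inv_cancel_right, mul_assoc, D.zz, mul_one]
    calc D.g⁻¹ * D.u * D.g = D.g⁻¹ * (D.g * (D.u * D.z) * D.g⁻¹) * D.g := by rw [h1]
      _ = D.u * D.z := by group
  have g3 : D.g * D.z * D.g⁻¹ = D.z := by rw [D.gz.eq, mul_inv_cancel_right]
  have g4 : D.g⁻¹ * (D.u * D.z) * D.g = D.u := by rw [← D.g_u]; group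
  set w := D.g * x * D.g⁻¹ * x with hw
  have w1 : Commute w D.z := by
    refine mul_inv_eq_iff_eq_mul.1 ?_
    calc w * D.z * w⁻¹ = D.g * (x * (D.g⁻¹ * (x * D.z * x⁻¹) * D.g) * x⁻¹) * D.g⁻¹ := by
          rw [hw]; group
      _ = D.z := by rw [x1, g2, x3, g3]
  have w2 : Commute w D.u := by
    refine mul_inv_eq_iff_eq_mul.1 ?_
    calc w * D.u * w⁻¹ = D.g * (x * (D.g⁻¹ * (x * D.u * x⁻¹) * D.g) * x⁻¹) * D.g⁻¹ := by
          rw [hw]; group
      _ = D.g * (D.u * D.z) * D.g⁻¹ := by rw [x2, g4, x2]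
      _ = D.u := by
        calc D.g * (D.u * D.z) * D.g⁻¹ = (D.g * D.u * D.g⁻¹) * (D.g * D.z * D.g⁻¹) := by group
          _ = D.u := by rw [D.g_u, g3, mul_assoc, D.zz, mul_one]
  have w3 : Commute w D.r := by
    have h1 : Commute (D.g * x * D.g⁻¹) D.r := by
      have h2 : Commute (D.g * x * D.g⁻¹) (D.g * D.r * D.g⁻¹) := SemiconjBy.conj_iff.2 xr
      rw [D.g_r] at h2
      exact Commute.inv_right_iff.1 h2
    exact h1.mul_left xr
  obtain ⟨i, hi, j, hj, k, hk, e⟩ := commute_zur D w1 w2 w3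
  refine ⟨i, hi, j, hj, k, hk, ?_⟩
  rw [← e, hw]; group

end Cfsg.Agent.SporRec.TwoNine.Vx
end

-- part: SporRec/TwoNine/Fuse
section
/-!
# Elements of order three centralising a four-group; planes
-/

set_option autoImplicit false

namespace Cfsg.Agent.SporRec.TwoNine.Fuse

open Equiv Equiv.Perm Subgroup
open Cfsg.Agent.SporRec.TwoNine.Cv Cfsg.Agent.SporRec.TwoNine.Perms
  Cfsg.Agent.SporRec.TwoNine.PermFacts Cfsg.Agent.SporRec.TwoNine.PermFacts2
  Cfsg.Agent.SporRec.TwoNine.PermFacts3 Cfsg.Agent.SporRec.TwoNine.Basic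
  Cfsg.Agent.SporRec.TwoNine.Lifts Cfsg.Agent.SporRec.TwoNine.Lifts.Data
  Cfsg.Agent.SporRec.TwoNine.Vx

variable {G : Type*} [Group G] {m : ℕ} (D : Data G m)

theorem p_comm {x y : G} (hx : Commute x D.z) (hy : Commute y D.z) (h : Commute x y) :
    Commute (D.p x) (D.p y) := by
  change _ * _ = _ * _
  rw [← D.cv.mul hx hy, h.eq, D.cv.mul hy hx]

/-- an element of order three of `C(z)` commuting with an involution `t ≠ z` of `C(z)` is conjugate to `r` -/
theorem conj_r_of_z {x t : G} (hx3 : x ^ 3 = 1) (hx1 : x ≠ 1) (hxz : Commute x D.z)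
    (htz : Commute t D.z) (htt : t * t = 1) (ht1 : t ≠ 1) (htz' : t ≠ D.z) (hxt : Commute x t) :
    ∃ y, y * x * y⁻¹ = D.r := by
  have hm := D.hm
  have h := D.cv
  obtain ⟨k, hk, hkt⟩ := exists_conj_u hm h D.uz D.pu htz htt ht1 htz'
  set x' := k * x * k⁻¹ with hx'
  have h1 : Commute x' D.z := (hk.mul_left hxz).mul_left hk.inv_left
  have h2 : Commute x' D.u := by
    rw [← hkt]; exact SemiconjBy.conj_iff.2 hxt
  have h3 : x' ^ 3 = 1 := by rw [hx', conj_pow, hx3]; group
  have h4 : x' ≠ 1 := by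
    intro h5
    apply hx1
    calc x = k⁻¹ * x' * k := by rw [hx']; group
      _ = 1 := by rw [h5]; group
  have h5 : D.p x' ^ 3 = 1 := by rw [← h.pow h1, h3, h.one]
  have h6 : D.p x' ≠ 1 := by
    intro h7
    rcases h.ker h1 h7 with h8 | h8
    · exact h4 h8
    · rw [h8, pow_succ, pow_two, D.zz, one_mul] at h3
      exact D.z_ne_one h3
  have h7 : Commute (D.p x') (su m) := by
    rw [← D.pu]; exact p_comm D h1 D.uz h2
  obtain ⟨σ, hσ, hσx⟩ := exists_even_conj_sab hm (cycleType_of_commute_su hm h5 h6 h7)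
  obtain ⟨s, hs, hsp⟩ := h.surj hσ
  have h8 : s * x' * s⁻¹ = D.r := by
    refine h.conj_cube hs h1 D.rz h3 D.r3 ?_
    rw [hsp, D.pr, ← hσx]; group
  refine ⟨s * k, ?_⟩
  rw [← h8, hx']; group

/-- an element of order three commuting with two commuting involutions conjugate to `z` is conjugate to `r` -/
theorem conj_r {x t s : G} (hx3 : x ^ 3 = 1) (hx1 : x ≠ 1) (ht : ∃ y, y * D.z * y⁻¹ = t)
    (hss : s * s = 1) (hs1 : s ≠ 1) (hst : s ≠ t) (hcs : Commute s t)
    (hxt : Commute x t) (hxs : Commute x s) : ∃ y, y * x * y⁻¹ = D.r := by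
  obtain ⟨y, hy⟩ := ht
  have e : y⁻¹ * t * y = D.z := by rw [← hy]; group
  obtain ⟨k, hk⟩ := conj_r_of_z D (x := y⁻¹ * x * y) (t := y⁻¹ * s * y) (by
      have : y⁻¹ * x * y = y⁻¹ * x * (y⁻¹)⁻¹ := by rw [inv_inv]
      rw [this, conj_pow, hx3]; group) (by
      intro h1
      apply hx1
      calc x = y * (y⁻¹ * x * y) * y⁻¹ := by group
        _ = 1 := by rw [h1]; group) (by
      rw [← e]
      have : ∀ w : G, y⁻¹ * w * y = y⁻¹ * w * (y⁻¹)⁻¹ := fun w => by rw [inv_inv]
      rw [this, this]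
      exact SemiconjBy.conj_iff.2 hxt) (by
      rw [← e]
      have : ∀ w : G, y⁻¹ * w * y = y⁻¹ * w * (y⁻¹)⁻¹ := fun w => by rw [inv_inv]
      rw [this, this]
      exact SemiconjBy.conj_iff.2 hcs) (by
      calc y⁻¹ * s * y * (y⁻¹ * s * y) = y⁻¹ * (s * s) * y := by group
        _ = 1 := by rw [hss]; group) (by
      intro h1
      apply hs1
      calc s = y * (y⁻¹ * s * y) * y⁻¹ := by group
        _ = 1 := by rw [h1]; group) (by
      rw [← e]
      intro h1
      exact hst (mul_left_cancel (mul_right_cancel h1))) (by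
      have : ∀ w : G, y⁻¹ * w * y = y⁻¹ * w * (y⁻¹)⁻¹ := fun w => by rw [inv_inv]
      rw [this, this]
      exact SemiconjBy.conj_iff.2 hxs)
  refine ⟨k * y⁻¹, ?_⟩
  rw [← hk]; group

/-- elements of `C(z)` commuting with a plane of `A` -/
theorem mem_A_or_of_plane {e : ℕ} (he : e = 1 ∨ e = 2) {y : G} (hz : Commute y D.z)
    (hr : Commute y D.r) (hc : Commute y (D.a * D.c ^ e)) : y ∈ D.A ∨ y * D.z ∈ D.A := by
  have h1 : Commute (D.p y) (sa m * sb m) := by
    rw [← D.pr]; exact p_comm D hz D.rz hr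
  have h2 : Commute (D.p y) (sa m * sc m ^ e) := by
    have h3 := p_comm D hz (D.az.mul_left (D.cz.pow_left e)) hc
    rw [D.cv.mul D.az (D.cz.pow_left e), D.cv.pow D.cz, D.pa, D.pc] at h3
    exact h3
  obtain ⟨i, -, j, -, k, -, h3⟩ := commute_plane D.hm he h1 h2
  exact D.mem_A_or_of_p hz h3

theorem mem_A_of_odd {y : G} (h : y ∈ D.A ∨ y * D.z ∈ D.A) (hz : Commute y D.z)
    (ho : Odd (orderOf y)) : y ∈ D.A := by
  rcases h with h | h
  · exact h
  · exfalso
    have h1 := D.A_cube h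
    rw [hz.mul_pow] at h1
    have h2 : D.z ^ 3 = D.z := by rw [pow_succ, pow_two, D.zz, one_mul]
    rw [h2] at h1
    have h3 : y ^ 3 = D.z := by
      rw [← D.z_inv]; exact eq_inv_of_mul_eq_one_left h1
    have h4 : Odd (orderOf (y ^ 3)) := ho.of_dvd_nat (orderOf_pow_dvd 3)
    rw [h3] at h4
    exact D.z_ne_one (Gen.eq_one_of_odd h4 D.zz)

theorem eq_z_of_involution {y : G} (h : y ∈ D.A ∨ y * D.z ∈ D.A) (hz : Commute y D.z)
    (hyy : y * y = 1) (hy1 : y ≠ 1) : y = D.z := by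
  have hodd : ∀ w ∈ D.A, Odd (orderOf w) := by
    intro w hw
    refine Odd.of_dvd_nat (n := 3) (by decide) (orderOf_dvd_of_pow_eq_one (D.A_cube hw))
  rcases h with h | h
  · exact absurd (Gen.eq_one_of_odd (hodd y h) hyy) hy1
  · have h1 : y * D.z = 1 := by
      refine Gen.eq_one_of_odd (hodd _ h) ?_
      calc y * D.z * (y * D.z) = y * (D.z * y) * D.z := by group
        _ = y * (y * D.z) * D.z := by rw [hz.eq]
        _ = (y * y) * (D.z * D.z) := by group
        _ = 1 := by rw [hyy, D.zz, one_mul]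
    rw [← D.z_inv]
    exact eq_inv_of_mul_eq_one_left h1

/-- no element inverts a plane of type `⟨a b, a c ^ e⟩` of `A` -/
theorem not_inverts_plane [Finite G] {e : ℕ} (he : e = 1 ∨ e = 2) {y : G}
    (h1 : y * D.r * y⁻¹ = D.r⁻¹) (h2 : y * (D.a * D.c ^ e) * y⁻¹ = (D.a * D.c ^ e)⁻¹) : False := by
  set s := D.a * D.c ^ e with hs
  have hsz : Commute s D.z := D.az.mul_left (D.cz.pow_left e)
  set N : Subgroup G := centralizer {D.r, s} with hN
  have memN : ∀ {w : G}, w ∈ N ↔ Commute w D.r ∧ Commute w s := by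
    intro w
    rw [hN, mem_centralizer_iff]
    constructor
    · intro h
      exact ⟨(h D.r (by simp)).symm, (h s (by simp)).symm⟩
    · rintro ⟨h1, h2⟩ t (rfl | rfl)
      · exact h1.eq.symm
      · exact h2.eq.symm
  have hu := Gen.unique_involution_sub (N := N) (z := D.z) (memN.2 ⟨D.rz.symm, hsz.symm⟩) D.zz
    D.z_ne_one (by
      intro t ht htt ht1 htz
      obtain ⟨t1, t2⟩ := memN.1 ht
      exact eq_z_of_involution D (mem_A_or_of_plane D he htz t1 t2) htz htt ht1)
  have conj_inv : ∀ {w : G}, Commute w D.z → y * w * y⁻¹ = w⁻¹ → Commute (y * D.z * y⁻¹) w := by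
    intro w hw hyw
    have h3 : Commute (y * D.z * y⁻¹) (y * w * y⁻¹) := SemiconjBy.conj_iff.2 hw.symm
    rw [hyw] at h3
    exact Commute.inv_right_iff.1 h3
  obtain ⟨k, hk, hkz⟩ := hu.1 (y * D.z * y⁻¹) (memN.2 ⟨conj_inv D.rz h1, conj_inv hsz h2⟩) (by
      calc y * D.z * y⁻¹ * (y * D.z * y⁻¹) = y * (D.z * D.z) * y⁻¹ := by group
        _ = 1 := by rw [D.zz]; group) (by
      intro h3
      apply D.z_ne_one
      calc D.z = y⁻¹ * (y * D.z * y⁻¹) * y := by group
        _ = 1 := by rw [h3]; group)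
  obtain ⟨kr, ks⟩ := memN.1 hk
  set q := k * y with hq
  have hqz : Commute q D.z := by
    refine mul_inv_eq_iff_eq_mul.1 ?_
    calc q * D.z * q⁻¹ = k * (y * D.z * y⁻¹) * k⁻¹ := by rw [hq]; group
      _ = D.z := hkz
  have hqr : q * D.r * q⁻¹ = D.r⁻¹ := by
    calc q * D.r * q⁻¹ = k * (y * D.r * y⁻¹) * k⁻¹ := by rw [hq]; group
      _ = D.r⁻¹ := by rw [h1, kr.inv_right.eq, mul_inv_cancel_right]
  have hqs : q * s * q⁻¹ = s⁻¹ := by
    calc q * s * q⁻¹ = k * (y * s * y⁻¹) * k⁻¹ := by rw [hq]; group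
      _ = s⁻¹ := by rw [h2, ks.inv_right.eq, mul_inv_cancel_right]
  have h := D.cv
  refine sign_of_inverts D.hm he (σ := D.p q) ?_ ?_ (h.sgn hqz)
  · rw [← D.pr, ← h.conj hqz D.rz, hqr, h.inv D.rz]
  · have hps : D.p s = sa m * sc m ^ e := by
      rw [hs, h.mul D.az (D.cz.pow_left e), h.pow D.cz, D.pa, D.pc]
    rw [← hps, ← h.conj hqz hsz, hqs, h.inv hsz]

end Cfsg.Agent.SporRec.TwoNine.Fuse
end
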